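import Cfsg.Agent.Lib.ConjInvol.Reduced
import Cfsg.Agent.Lib.Solvable.PSeries
import Cfsg.Agent.Lib.Transfer.Basic
import Mathlib.GroupTheory.FiniteAbelian.Basic

/-!
Solvable groups with one class of involutions: 2-length one and the Sylow 2-subgroups.
-/

set_option autoImplicit false
set_option linter.unusedSectionVars false
set_option linter.style.haveILetI false

namespace Cfsg.Agent.ConjInvol

open Cfsg.Agent.PSeries

universe u

/-- A finite abelian 2-group whose automorphisms permute its involutions transitively is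
homocyclic. -/
theorem homocyclic {S : Type u} [CommGroup S] [Finite S] (hS : IsPGroup 2 S)
    (htr : ∀ x y : S, x ≠ 1 → x ^ 2 = 1 → y ≠ 1 → y ^ 2 = 1 → ∃ φ : MulAut S, φ x = y) :
    ∃ m r : ℕ, Nonempty (S ≃* (Fin r → Multiplicative (ZMod (2 ^ m)))) := by
  classical
  haveI : Fact (Nat.Prime 2) := ⟨Nat.prime_two⟩
  obtain ⟨ι, hι, n, hn, ⟨e⟩⟩ := CommGroup.equiv_prod_multiplicative_zmod_of_finite S
  haveI := hι
  obtain ⟨k, hk⟩ := IsPGroup.iff_card.1 hS
  have hpow : ∀ i, ∃ j, 1 ≤ j ∧ n i = 2 ^ j := by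
    intro i
    let g : S := e.symm (Pi.mulSingle i (Multiplicative.ofAdd (1 : ZMod (n i))))
    have hg : orderOf g = n i := by
      rw [MulEquiv.orderOf_eq]
      refine (orderOf_injective (MonoidHom.mulSingle (fun j => Multiplicative (ZMod (n j))) i)
        (Pi.mulSingle_injective (M := fun j => Multiplicative (ZMod (n j))) i) _).trans ?_
      rw [orderOf_ofAdd_eq_addOrderOf, ZMod.addOrderOf_one]
    have hd : n i ∣ 2 ^ k := hg ▸ hk ▸ orderOf_dvd_natCard g
    obtain ⟨j, -, hj⟩ := (Nat.dvd_prime_pow Nat.prime_two).1 hd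
    refine ⟨j, Nat.one_le_iff_ne_zero.2 fun h => ?_, hj⟩
    have := hn i
    rw [hj, h] at this
    exact absurd this (by norm_num)
  choose ex hex1 hex using hpow
  let v : ∀ i, ∀ j, Multiplicative (ZMod (n j)) := fun i =>
    Pi.mulSingle i (Multiplicative.ofAdd ((2 ^ (ex i - 1) : ℕ) : ZMod (n i)))
  have hv2 : ∀ i, v i ^ 2 = 1 := fun i => by
    rw [← Pi.mulSingle_pow, ← ofAdd_nsmul, nsmul_eq_mul, ← Nat.cast_mul, ← pow_succ',
      show ex i - 1 + 1 = ex i by have := hex1 i; omega, ← hex i, ZMod.natCast_self, ofAdd_zero,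
      Pi.mulSingle_one]
  have hv1 : ∀ i, v i i ≠ 1 := fun i h => by
    rw [show v i i = Multiplicative.ofAdd ((2 ^ (ex i - 1) : ℕ) : ZMod (n i)) from
      Pi.mulSingle_eq_same _ _, ofAdd_eq_one, ZMod.natCast_eq_zero_iff, hex i, Nat.pow_dvd_pow_iff_le_right (by norm_num)] at h
    have := hex1 i
    omega
  have hne : ∀ i, v i ≠ 1 := fun i h => hv1 i (by rw [h]; rfl)
  have hle : ∀ i j, ex i ≤ ex j := by
    intro i j
    by_contra hlt
    obtain ⟨φ, hφ⟩ := htr (e.symm (v i)) (e.symm (v j))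
      (by simpa using hne i) (by rw [← map_pow, hv2, map_one])
      (by simpa using hne j) (by rw [← map_pow, hv2, map_one])
    have hpw : e.symm (v i) = (e.symm (Pi.mulSingle i (Multiplicative.ofAdd (1 : ZMod (n i))))) ^
        2 ^ (ex i - 1) := by
      rw [← map_pow, ← Pi.mulSingle_pow, ← ofAdd_nsmul, nsmul_eq_mul, mul_one]
    rw [hpw, map_pow] at hφ
    have h := congrArg (fun z => e z j) hφ
    simp only [map_pow, Pi.pow_apply, MulEquiv.apply_symm_apply] at h
    generalize e (φ (e.symm (Pi.mulSingle i (Multiplicative.ofAdd (1 : ZMod (n i)))))) j = w at h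
    refine hv1 j (h.symm.trans ?_)
    rw [← ofAdd_toAdd w, ← ofAdd_nsmul, ofAdd_eq_one, nsmul_eq_mul]
    have hz : ((2 ^ (ex i - 1) : ℕ) : ZMod (n j)) = 0 := by
      rw [ZMod.natCast_eq_zero_iff, hex j]
      exact Nat.pow_dvd_pow 2 (by omega)
    rw [hz, zero_mul]
  rcases isEmpty_or_nonempty ι with hempty | ⟨⟨i₀⟩⟩
  · haveI : Subsingleton S := e.toEquiv.subsingleton
    exact ⟨0, 0, ⟨{ toFun := fun _ => 1, invFun := fun _ => 1,
                    left_inv := fun _ => Subsingleton.elim _ _,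
                    right_inv := fun _ => Subsingleton.elim _ _,
                    map_mul' := fun _ _ => (one_mul 1).symm }⟩⟩
  · have hnc : n = fun _ => 2 ^ ex i₀ := funext fun i => by
      rw [hex i, le_antisymm (hle i i₀) (hle i₀ i)]
    subst hnc
    let σ := Fintype.equivFin ι
    refine ⟨ex i₀, Fintype.card ι, ⟨e.trans
      { toFun := fun f k => f (σ.symm k), invFun := fun f i => f (σ i),
        left_inv := fun f => funext fun i => congrArg f (σ.symm_apply_apply i),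
        right_inv := fun f => funext fun k => by simp,
        map_mul' := fun _ _ => rfl }⟩⟩

variable {G : Type u} [Group G] [Finite G]

theorem main [Group.IsSolvable G] (S : Sylow 2 G)
    (htwo : ∃ x y : G, x ∈ (S : Subgroup G) ∧ y ∈ (S : Subgroup G) ∧ x ≠ y ∧ x ≠ 1 ∧ x ^ 2 = 1 ∧
      y ≠ 1 ∧ y ^ 2 = 1)
    (hconj : ∀ x y : G, x ≠ 1 → x ^ 2 = 1 → y ≠ 1 → y ^ 2 = 1 → IsConj x y) :
    Cfsg.PLengthLE 2 1 G ∧
      ∀ x y : G, x ∈ (S : Subgroup G) → y ∈ (S : Subgroup G) → x ≠ 1 → x ^ 2 = 1 → y ≠ 1 →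
        y ^ 2 = 1 → ∃ g ∈ Subgroup.normalizer ((S : Subgroup G) : Set G), g * x * g⁻¹ = y := by
  haveI : Fact (Nat.Prime 2) := ⟨Nat.prime_two⟩
  obtain ⟨x₀, y₀, hx₀S, hy₀S, hxy, hx1, hx2, hy1, hy2⟩ := htwo
  set O := Cfsg.pPrimeCore 2 G with hOdef
  haveI hOn : O.Normal := FittingCores.pPrimeCore_normal 2
  set f := QuotientGroup.mk' O with hfdef
  have hf : Function.Surjective f := QuotientGroup.mk'_surjective O
  haveI : Group.IsSolvable (G ⧸ O) := Group.isSolvable_of_surjective hf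
  have hker : ∀ z, f z = 1 ↔ z ∈ O := fun z => QuotientGroup.eq_one_iff z
  have hdisj : ∀ T : Sylow 2 G, ∀ z ∈ (T : Subgroup G), z ∈ O → z = 1 := by
    intro T z hz hzO
    obtain ⟨k, hk⟩ := T.isPGroup' ⟨z, hz⟩
    have h1 : z ^ 2 ^ k = 1 := congrArg Subtype.val hk
    have h3 : z ^ Nat.gcd (2 ^ k) (Nat.card O) = 1 := pow_gcd_eq_one.2 ⟨h1,
      congrArg Subtype.val (pow_card_eq_one' (x := (⟨z, hzO⟩ : O)))⟩
    rwa [((FittingCores.pPrimeCore_coprime (G := G) 2).symm.pow_left k).gcd_eq_one, pow_one] at h3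
  have hlift : ∀ z : G ⧸ O, z ≠ 1 → z * z = 1 → ∃ t : G, f t = z ∧ t ≠ 1 ∧ t ^ 2 = 1 := by
    intro z hz hzz
    have hp : IsPGroup 2 (Subgroup.zpowers z) := IsPGroup.of_card (n := 1) (by
      rw [Nat.card_zpowers, pow_one, orderOf_eq_prime (by rw [pow_two, hzz]) hz])
    obtain ⟨T, hT⟩ := hp.exists_le_sylow
    obtain ⟨T₀, rfl⟩ := Sylow.mapSurjective_surjective hf 2 T
    obtain ⟨t, ht, rfl⟩ := hT (Subgroup.mem_zpowers z)
    exact ⟨t, rfl, fun h => hz (by rw [h, map_one]),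
      hdisj T₀ _ (pow_mem ht 2) ((hker _).1 (by rw [map_pow, pow_two, hzz]))⟩
  have hSb : (((S.mapSurjective hf) : Sylow 2 (G ⧸ O)) : Subgroup (G ⧸ O)) ≤
      Cfsg.pCore 2 (G ⧸ O) := by
    refine sylow_le_pCore (PBasic.pPrimeCore_quotient_pPrimeCore 2 G) ⟨f x₀, f y₀, fun h => ?_,
      fun h => hx1 (hdisj S _ hx₀S ((hker _).1 h)), by rw [← map_mul, ← pow_two, hx2, map_one],
      fun h => hy1 (hdisj S _ hy₀S ((hker _).1 h)), by rw [← map_mul, ← pow_two, hy2, map_one]⟩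
      (fun a b ha haa hb hbb => ?_) _
    · refine hxy (inv_mul_eq_one.1 (hdisj S _ (mul_mem (inv_mem hx₀S) hy₀S) ((hker _).1 ?_)))
      rw [map_mul, map_inv, h, inv_mul_cancel]
    · obtain ⟨s, rfl, hs1, hs2⟩ := hlift a ha haa
      obtain ⟨t, rfl, ht1, ht2⟩ := hlift b hb hbb
      obtain ⟨g, hg⟩ := isConj_iff.1 (hconj s t hs1 hs2 ht1 ht2)
      exact ⟨f g, by rw [← map_inv, ← map_mul, ← map_mul, hg]⟩
  refine ⟨?_, ?_⟩
  · have hSU : (S : Subgroup G) ≤ U 2 G 2 := fun s hs => by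
      rw [U_two]
      exact hSb (Subgroup.mem_map_of_mem f hs)
    rw [pLengthLE_succ_iff, pLengthLE_zero_iff, ← Subgroup.index_eq_card]
    exact ((Nat.prime_two.coprime_iff_not_dvd).2 fun h =>
      S.not_dvd_index (h.trans (Subgroup.index_dvd_of_le hSU))).symm
  · intro x y hxS hyS hx hxx hy hyy
    obtain ⟨g, hg⟩ := isConj_iff.1 (hconj x y hx hxx hy hyy)
    set N := (Cfsg.pCore 2 (G ⧸ O)).comap f with hNdef
    haveI : N.Normal := (FittingCores.pCore_normal 2).comap f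
    have hSN : (S : Subgroup G) ≤ N := fun s hs => hSb (Subgroup.mem_map_of_mem f hs)
    have hNO : N ≤ O ⊔ (S : Subgroup G) := by
      intro z hz
      obtain ⟨s, hs, hsz⟩ := FittingCores.pCore_le_sylow (S.mapSurjective hf) hz
      rw [show z = (z * s⁻¹) * s by group]
      exact mul_mem (Subgroup.mem_sup_left ((hker _).1 (by rw [map_mul, map_inv, hsz, mul_inv_cancel])))
        (Subgroup.mem_sup_right hs)
    have hfr : O ⊔ Subgroup.normalizer ((S : Subgroup G) : Set G) = ⊤ := by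
      have h := Sylow.normalizer_sup_eq_top (S.subtype hSN)
      rw [Sylow.coe_subtype, Subgroup.map_subgroupOf_eq_of_le hSN] at h
      refine top_le_iff.1 (h ▸ sup_le le_sup_right ?_)
      exact hNO.trans (sup_le le_sup_left (Subgroup.le_normalizer.trans le_sup_right))
    obtain ⟨o, ho, m, hm, rfl⟩ :=
      Subgroup.mem_sup_of_normal_left.1 (hfr.symm ▸ Subgroup.mem_top g : g ∈ O ⊔ _)
    have hz : m * x * m⁻¹ ∈ (S : Subgroup G) := (Subgroup.mem_normalizer_iff.1 hm x).1 hxS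
    refine ⟨m, hm, inv_mul_eq_one.1 (hdisj S _ (mul_mem (inv_mem hz) hyS) ((hker _).1 ?_))⟩
    rw [← hg]
    simp only [map_mul, map_inv, (hker o).2 ho, one_mul]
    group

end Cfsg.Agent.ConjInvol
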