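import Cfsg.Agent.Lib.Solvable.Coprime

/-!
An elementary abelian 2-group acting on a group of odd order: axes (hyperplanes with an inverted
element) and the abelian subgroup spanned by elements on different axes.
-/

set_option autoImplicit false
set_option linter.unusedSectionVars false
set_option linter.style.haveILetI false
set_option linter.unusedSimpArgs false

namespace Cfsg.Agent.ConjInvol

open scoped commutatorElement Pointwise

variable {H : Type*} [Group H] [Finite H]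

/-- A hyperplane of `W` fixing a nontrivial element of `R` which the rest of `W` inverts. -/
def IsAxis (W R K : Subgroup H) : Prop :=
  K ≤ W ∧ ¬ W ≤ K ∧ (∀ u ∈ W, ∀ v ∈ W, u ∉ K → v ∉ K → u * v ∈ K) ∧
    ∃ a ∈ R, a ≠ 1 ∧ (∀ w ∈ K, w * a * w⁻¹ = a) ∧ ∀ w ∈ W, w ∉ K → w * a * w⁻¹ = a⁻¹

theorem exists_axis (W R : Subgroup H) (hW2 : ∀ w ∈ W, w * w = 1)
    (hWc : ∀ u ∈ W, ∀ v ∈ W, u * v = v * u) (hWR : W ≤ Subgroup.normalizer (R : Set H))
    (hcop : (Nat.card W).Coprime (Nat.card R)) (hnt : ¬ W ≤ Subgroup.centralizer (R : Set H)) :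
    ∃ K, IsAxis W R K := by
  classical
  let Good : Subgroup H → Prop := fun X =>
    X ≤ W ∧ ¬ W ≤ Subgroup.centralizer ((R ⊓ Subgroup.centralizer (X : Set H) : Subgroup H) : Set H)
  have hbot : Good ⊥ := by
    refine ⟨bot_le, fun h => hnt ?_⟩
    have hc : Subgroup.centralizer ((⊥ : Subgroup H) : Set H) = ⊤ := by
      ext x; simp [Subgroup.mem_centralizer_iff]
    rwa [hc, inf_top_eq] at h
  obtain ⟨K, ⟨hKW, hKn⟩, hmax⟩ :=
    (Set.toFinite {X : Subgroup H | Good X}).exists_maximal ⟨⊥, hbot⟩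
  set K₁ := R ⊓ Subgroup.centralizer (K : Set H) with hK₁
  have hinvW : ∀ w ∈ W, w⁻¹ = w := fun w hw => inv_eq_of_mul_eq_one_right (hW2 w hw)
  have hbig : ∀ e ∈ W, e ∉ K → ∀ w ∈ W, ∀ x ∈ K₁, x * e = e * x → w * x = x * w := by
    intro e he heK w hw x hx hxe
    by_contra hne
    refine heK (hmax (y := K ⊔ Subgroup.zpowers e) ⟨sup_le hKW (Subgroup.zpowers_le.2 he), ?_⟩
      le_sup_left (Subgroup.mem_sup_right (Subgroup.mem_zpowers e)))
    intro h
    have hxc : x ∈ R ⊓ Subgroup.centralizer ((K ⊔ Subgroup.zpowers e : Subgroup H) : Set H) := by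
      refine ⟨hx.1, ?_⟩
      show x ∈ Subgroup.centralizer _
      rw [← Subgroup.zpowers_le]
      refine Subgroup.le_centralizer_iff.1 (sup_le ?_ ?_)
      · exact Subgroup.le_centralizer_iff.1 (Subgroup.zpowers_le.2 hx.2)
      · exact Subgroup.zpowers_le.2 (Subgroup.mem_centralizer_iff.2 fun z hz => by
          obtain ⟨i, rfl⟩ := Subgroup.mem_zpowers_iff.1 hz
          exact (Commute.zpow_left hxe i).eq)
    exact hne (Subgroup.mem_centralizer_iff.1 (h hw) x hxc).symm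
  have hconj : ∀ w ∈ W, ∀ x ∈ K₁, w * x * w⁻¹ ∈ K₁ := by
    intro w hw x hx
    refine ⟨(Subgroup.mem_normalizer_iff.1 (hWR hw) x).1 hx.1, Subgroup.mem_centralizer_iff.2 fun k hk => ?_⟩
    have h1 := Subgroup.mem_centralizer_iff.1 hx.2 k hk
    have h2 := hWc k (hKW hk) w hw
    have h3 := hWc k (hKW hk) w⁻¹ (inv_mem hw)
    calc k * (w * x * w⁻¹) = (k * w) * x * w⁻¹ := by group
      _ = w * (k * x) * w⁻¹ := by rw [h2]; group
      _ = w * x * (k * w⁻¹) := by rw [h1]; group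
      _ = w * x * w⁻¹ * k := by rw [h3]; group
  have hnotle : ¬ W ≤ K := fun h => hKn (fun w hw => Subgroup.mem_centralizer_iff.2 fun x hx =>
    (Subgroup.mem_centralizer_iff.1 hx.2 w (h hw)).symm)
  have htwo : ∀ u ∈ W, ∀ v ∈ W, u ∉ K → v ∉ K → u * v ∈ K := by
    intro u hu v hv huK hvK
    by_contra huv
    have huu := hW2 u hu
    have hvv := hW2 v hv
    have hc := hWc u hu v hv
    let E : Subgroup H :=
      { carrier := {x | x = 1 ∨ x = u ∨ x = v ∨ x = u * v}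
        one_mem' := Or.inl rfl
        mul_mem' := by
          have a1 : ∀ z, u * (u * z) = z := fun z => by rw [← mul_assoc, huu, one_mul]
          have a2 : ∀ z, v * (v * z) = z := fun z => by rw [← mul_assoc, hvv, one_mul]
          have a3 : ∀ z, v * (u * z) = u * (v * z) := fun z => by rw [← mul_assoc, ← hc, mul_assoc]
          rintro x y (rfl | rfl | rfl | rfl) (rfl | rfl | rfl | rfl) <;>
            simp [huu, hvv, hc.symm, a1, a2, a3, mul_assoc]
        inv_mem' := by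
          rintro x (rfl | rfl | rfl | rfl)
          · exact Or.inl inv_one
          · exact Or.inr (Or.inl (hinvW _ hu))
          · exact Or.inr (Or.inr (Or.inl (hinvW _ hv)))
          · exact Or.inr (Or.inr (Or.inr (hinvW _ (mul_mem hu hv)))) }
    have hEW : E ≤ W := by
      rintro x (rfl | rfl | rfl | rfl)
      exacts [one_mem _, hu, hv, mul_mem hu hv]
    haveI : IsMulCommutative E :=
      ⟨⟨fun a b => Subtype.ext (hWc _ (hEW a.2) _ (hEW b.2))⟩⟩
    have hu1 : u ≠ 1 := fun h => huK (h ▸ one_mem K)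
    have hv1 : v ≠ 1 := fun h => hvK (h ▸ one_mem K)
    have hne : u ≠ v := fun h => huv (by rw [← h, huu]; exact one_mem K)
    have hcyc : ¬ IsCyclic E := by
      rintro ⟨g, hg⟩
      have hg2 : g * g = 1 := Subtype.ext (hW2 _ (hEW g.2))
      have hall : ∀ x : E, x = 1 ∨ x = g := by
        intro x
        obtain ⟨i, rfl⟩ := hg x
        dsimp only
        rcases Int.even_or_odd i with ⟨m, rfl⟩ | ⟨m, rfl⟩
        · exact Or.inl (by rw [zpow_add, ← Commute.mul_zpow (Commute.refl g), hg2,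
            one_zpow])
        · exact Or.inr (by rw [zpow_add, zpow_mul, zpow_two, hg2, one_zpow, one_mul, zpow_one])
      have hmu : (⟨u, Or.inr (Or.inl rfl)⟩ : E) = g := (hall _).resolve_left fun h =>
        hu1 (congrArg Subtype.val h)
      have hmv : (⟨v, Or.inr (Or.inr (Or.inl rfl))⟩ : E) = g := (hall _).resolve_left fun h =>
        hv1 (congrArg Subtype.val h)
      exact hne (congrArg Subtype.val (hmu.trans hmv.symm))
    have hnorm : E ≤ Subgroup.normalizer (K₁ : Set H) := fun w hw => by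
      rw [Subgroup.mem_normalizer_iff]
      intro x
      refine ⟨hconj w (hEW hw) x, fun h => ?_⟩
      have := hconj w⁻¹ (inv_mem (hEW hw)) _ h
      simpa [mul_assoc] using this
    have hgen := CoprimeAct.generated_by_centralizers hcyc hnorm
      ((hcop.coprime_dvd_left (Subgroup.card_dvd_of_le hEW)).coprime_dvd_right
        (Subgroup.card_dvd_of_le inf_le_left))
    refine hKn (Subgroup.le_centralizer_iff.1 ?_)
    conv_lhs => rw [← hgen]
    refine iSup₂_le fun e he x hx => Subgroup.mem_centralizer_iff.2 fun w hw => ?_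
    obtain ⟨heE, he1⟩ := he
    refine hbig e (hEW heE) ?_ w hw x hx.1
      (Subgroup.mem_centralizer_singleton_iff.1 hx.2)
    rcases heE with rfl | rfl | rfl | rfl
    exacts [absurd rfl he1, huK, hvK, huv]
  obtain ⟨w₀, hw₀, hw₀K⟩ := SetLike.not_le_iff_exists.1 hnotle
  obtain ⟨x, hx, hxw⟩ : ∃ x ∈ K₁, w₀ * x ≠ x * w₀ := by
    by_contra h
    push Not at h
    refine hKn fun w hw => Subgroup.mem_centralizer_iff.2 fun x hx => ?_
    have hk : ∀ k ∈ K, x * k = k * x := fun k hk =>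
      (Subgroup.mem_centralizer_iff.1 hx.2 k hk).symm
    by_cases hwK : w ∈ K
    · exact hk w hwK
    · have hwK' := hk _ (htwo w₀ hw₀ w hw hw₀K hwK)
      calc x * w = x * (w₀⁻¹ * (w₀ * w)) := by group
        _ = w₀ * (x * (w₀ * w)) := by rw [hinvW w₀ hw₀, ← mul_assoc, ← h x hx, mul_assoc]
        _ = w₀ * w₀ * w * x := by rw [hwK']; group
        _ = w * x := by rw [hW2 w₀ hw₀, one_mul]
  have hfixK : ∀ y ∈ K₁, ∀ k ∈ K, k * y * k⁻¹ = y := fun y hy k hk => by
    rw [Subgroup.mem_centralizer_iff.1 hy.2 k hk, mul_inv_cancel_right]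
  set a := x⁻¹ * (w₀ * x * w₀⁻¹) with ha
  have haK : a ∈ K₁ := mul_mem (inv_mem hx) (hconj w₀ hw₀ x hx)
  refine ⟨K, hKW, hnotle, htwo, a, haK.1, fun h => hxw ?_, hfixK a haK, fun w hw hwK => ?_⟩
  · rw [ha, inv_mul_eq_one] at h
    calc w₀ * x = w₀ * x * w₀⁻¹ * w₀ := by group
      _ = x * w₀ := by rw [← h]
  · have h0 : w₀ * a * w₀⁻¹ = a⁻¹ := by
      rw [ha, hinvW w₀ hw₀]
      calc w₀ * (x⁻¹ * (w₀ * x * w₀)) * w₀ = w₀ * x⁻¹ * w₀ * x * (w₀ * w₀) := by group
        _ = (x⁻¹ * (w₀ * x * w₀))⁻¹ := by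
          rw [hW2 w₀ hw₀]; simp [hinvW w₀ hw₀, mul_assoc]
    have h1 := hfixK _ (inv_mem haK) _ (htwo w hw w₀ hw₀ hwK hw₀K)
    calc w * a * w⁻¹ = (w * w₀) * (w₀ * a * w₀⁻¹) * (w * w₀)⁻¹ := by
          simp [mul_inv_rev, hinvW w₀ hw₀, mul_assoc]
          rw [← mul_assoc w₀ w₀, hW2 w₀ hw₀, one_mul]
          simp [← mul_assoc, hW2 w₀ hw₀]
      _ = a⁻¹ := by rw [h0, h1]

theorem IsAxis.conj {W R K : Subgroup H} (h : IsAxis W R K) {l : H}
    (hW : l ∈ Subgroup.normalizer (W : Set H)) (hR : l ∈ Subgroup.normalizer (R : Set H)) :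
    IsAxis W R (MulAut.conj l • K) := by
  obtain ⟨h1, h2, h3, a, ha, ha1, hfix, hinv⟩ := h
  have hm : ∀ x, x ∈ MulAut.conj l • K ↔ l⁻¹ * x * l ∈ K := fun x => SolvBasic.mem_conjSmul
  have hWl : ∀ x ∈ W, l⁻¹ * x * l ∈ W := fun x hx =>
    (Subgroup.mem_normalizer_iff.1 hW _).2 (by simpa [mul_assoc] using hx)
  refine ⟨fun x hx => ?_, fun hle => h2 fun x hx => ?_, fun u hu v hv hu' hv' => ?_,
    l * a * l⁻¹, (Subgroup.mem_normalizer_iff.1 hR a).1 ha, by simpa using ha1,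
    fun w hw => ?_, fun w hw hw' => ?_⟩
  · simpa [mul_assoc] using (Subgroup.mem_normalizer_iff.1 hW _).1 (h1 ((hm x).1 hx))
  · simpa [mul_assoc] using (hm _).1 (hle ((Subgroup.mem_normalizer_iff.1 hW x).1 hx))
  · rw [hm] at hu' hv' ⊢
    simpa [mul_assoc] using h3 _ (hWl u hu) _ (hWl v hv) hu' hv'
  · calc w * (l * a * l⁻¹) * w⁻¹ = l * ((l⁻¹ * w * l) * a * (l⁻¹ * w * l)⁻¹) * l⁻¹ := by group
      _ = _ := by rw [hfix _ ((hm w).1 hw)]
  · rw [hm] at hw'
    calc w * (l * a * l⁻¹) * w⁻¹ = l * ((l⁻¹ * w * l) * a * (l⁻¹ * w * l)⁻¹) * l⁻¹ := by group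
      _ = _ := by rw [hinv _ (hWl w hw) hw']; group

/-- Axes span an abelian subgroup of order at least `3` to their number. -/
theorem exists_abelian (W R : Subgroup H) (hR : Odd (Nat.card R))
    (hcomm : ∀ a ∈ R, ∀ b ∈ R, ⁅a, b⁆ ∈ Subgroup.centralizer (R : Set H) ∧
      ∀ w ∈ W, w * ⁅a, b⁆ * w⁻¹ = ⁅a, b⁆)
    (T : Finset (Subgroup H)) (hT : ∀ K ∈ T, IsAxis W R K) :
    ∃ A : Subgroup H, A ≤ R ∧ IsMulCommutative A ∧ 3 ^ T.card ≤ Nat.card A := by
  classical
  let E : Subgroup H → H → Prop := fun K a =>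
    a ∈ R ∧ (∀ w ∈ K, w * a * w⁻¹ = a) ∧ ∀ w ∈ W, w ∉ K → w * a * w⁻¹ = a⁻¹
  have hoddR : ∀ x ∈ R, x * x = 1 → x = 1 := by
    intro x hx h
    have h1 : orderOf x ∣ 2 := orderOf_dvd_of_pow_eq_one (by rw [pow_two, h])
    have h2 : orderOf x ∣ Nat.card R := Subgroup.orderOf_dvd_natCard R hx
    have h3 := Nat.dvd_gcd h1 h2
    rw [(Nat.coprime_two_left.2 hR).gcd_eq_one, Nat.dvd_one, orderOf_eq_one_iff] at h3
    exact h3
  have hsym : ∀ K K' : Subgroup H, K ≤ W → ∀ a b, E K a → E K' b → (∃ w ∈ K, w ∉ K') →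
      a * b = b * a := by
    rintro K K' hKW a b ⟨haR, haf, -⟩ ⟨hbR, -, hbi⟩ ⟨w, hwK, hwK'⟩
    obtain ⟨hc, hcW⟩ := hcomm a haR b hbR
    have h1 : ⁅a, b⁆ = ⁅a, b⁻¹⁆ := by
      have h : w * ⁅a, b⁆ * w⁻¹ = ⁅w * a * w⁻¹, w * b * w⁻¹⁆ := by
        simp only [commutatorElement_def]; group
      rwa [haf w hwK, hbi w (hKW hwK) hwK', hcW w (hKW hwK)] at h
    have h2 : ⁅a, b⁻¹⁆ = ⁅a, b⁆⁻¹ := by
      have h := Subgroup.mem_centralizer_iff.1 (inv_mem hc) _ (inv_mem hbR)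
      calc ⁅a, b⁻¹⁆ = b⁻¹ * ⁅a, b⁆⁻¹ * b := by simp [commutatorElement_def, mul_assoc]
        _ = _ := by rw [h, inv_mul_cancel_right]
    have hcR : ⁅a, b⁆ ∈ R := by
      rw [commutatorElement_def]
      exact mul_mem (mul_mem (mul_mem haR hbR) (inv_mem haR)) (inv_mem hbR)
    exact commutatorElement_eq_one_iff_commute.1
      (hoddR _ hcR (mul_eq_one_iff_eq_inv.2 (h1.trans h2)))
  have hne : ∀ K K', IsAxis W R K → IsAxis W R K' → K ≠ K' →
      ∀ a b, E K a → E K' b → a * b = b * a := by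
    intro K K' hK hK' hne a b ha hb
    by_cases h : K ≤ K'
    · obtain ⟨w, hw, hw'⟩ := SetLike.not_le_iff_exists.1 fun h' => hne (le_antisymm h h')
      exact (hsym K' K hK'.1 b a hb ha ⟨w, hw, hw'⟩).symm
    · exact hsym K K' hK.1 a b ha hb (SetLike.not_le_iff_exists.1 h)
  suffices key : ∀ s : Finset (Subgroup H), s ⊆ T → ∃ A : Subgroup H, A ≤ R ∧
      (∀ x ∈ A, ∀ y ∈ A, x * y = y * x) ∧ 3 ^ s.card ≤ Nat.card A ∧
      (∀ w ∈ W, ∀ x ∈ A, w * x * w⁻¹ ∈ A) ∧
      ∀ K, IsAxis W R K → K ∉ s → ∀ b, E K b → (∀ x ∈ A, x * b = b * x) ∧ (b ∈ A → b = 1) by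
    obtain ⟨A, h1, h2, h3, -⟩ := key T subset_rfl
    exact ⟨A, h1, ⟨⟨fun x y => Subtype.ext (h2 _ x.2 _ y.2)⟩⟩, h3⟩
  intro s
  induction s using Finset.induction with
  | empty =>
    refine fun _ => ⟨⊥, bot_le, ?_, by simp, ?_, fun K _ _ b _ => ⟨?_, fun h => Subgroup.mem_bot.1 h⟩⟩
    · intro x hx y _; simp [Subgroup.mem_bot.1 hx]
    · intro w _ x hx; simp [Subgroup.mem_bot.1 hx]
    · intro x hx; simp [Subgroup.mem_bot.1 hx]
  | @insert K₀ s hK₀ ih =>
    intro hsub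
    have hK₀T := hT K₀ (hsub (Finset.mem_insert_self _ _))
    obtain ⟨A, hAR, hAc, hA3, hAW, hAx⟩ := ih ((Finset.subset_insert _ _).trans hsub)
    obtain ⟨hK₀W, -, htwo₀, a, haR, ha1, haf, hai⟩ := id hK₀T
    have haE : E K₀ a := ⟨haR, haf, hai⟩
    obtain ⟨haA, haA'⟩ := hAx K₀ hK₀T hK₀ a haE
    have hnorm : Subgroup.zpowers a ≤ Subgroup.normalizer (A : Set H) := by
      refine le_trans (Subgroup.zpowers_le.2 (Subgroup.mem_centralizer_iff.2 haA)) ?_
      exact Subgroup.centralizer_le_normalizer _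
    have hmem : ∀ x, x ∈ A ⊔ Subgroup.zpowers a → ∃ y ∈ A, ∃ i : ℤ, x = y * a ^ i := by
      intro x hx
      obtain ⟨y, hy, z, hz, rfl⟩ := (SolvBasic.mem_sup_iff_of_le_normalizer hnorm).1 hx
      obtain ⟨i, rfl⟩ := Subgroup.mem_zpowers_iff.1 hz
      exact ⟨y, hy, i, rfl⟩
    have hpow : ∀ y ∈ A, ∀ i : ℤ, Commute (a ^ i) y := fun y hy i =>
      Commute.zpow_left (haA y hy).symm i
    refine ⟨A ⊔ Subgroup.zpowers a, sup_le hAR (Subgroup.zpowers_le.2 haR), ?_, ?_, ?_, ?_⟩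
    · intro x hx x' hx'
      obtain ⟨y, hy, i, rfl⟩ := hmem x hx
      obtain ⟨y', hy', j, rfl⟩ := hmem x' hx'
      exact ((Commute.mul_right (hAc y hy y' hy') (hpow y hy j).symm).mul_left
        ((hpow y' hy' i).mul_right (Commute.zpow_zpow_self a i j))).eq
    · rw [Finset.card_insert_of_notMem hK₀, pow_succ]
      have hlt : A < A ⊔ Subgroup.zpowers a := lt_of_le_of_ne le_sup_left fun h =>
        ha1 (haA' (h.symm ▸ Subgroup.mem_sup_right (Subgroup.mem_zpowers a)))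
      have h1 : Nat.card A * A.relIndex (A ⊔ Subgroup.zpowers a) =
          Nat.card (A ⊔ Subgroup.zpowers a : Subgroup H) := by
        rw [← Subgroup.relIndex_bot_left, Subgroup.relIndex_mul_relIndex _ _ _ bot_le le_sup_left,
          Subgroup.relIndex_bot_left]
      have h2 : Odd (A.relIndex (A ⊔ Subgroup.zpowers a)) :=
        hR.of_dvd_nat ((Dvd.intro_left _ h1).trans
          (Subgroup.card_dvd_of_le (sup_le hAR (Subgroup.zpowers_le.2 haR))))
      have h3 : A.relIndex (A ⊔ Subgroup.zpowers a) ≠ 1 := fun h =>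
        hlt.not_ge (Subgroup.relIndex_eq_one.1 h)
      have h4 : 3 ≤ A.relIndex (A ⊔ Subgroup.zpowers a) := by
        obtain ⟨m, hm⟩ := h2; omega
      rw [← h1]
      exact Nat.mul_le_mul hA3 h4
    · intro w hw x hx
      obtain ⟨y, hy, i, rfl⟩ := hmem x hx
      rw [← conj_mul, ← conj_zpow]
      refine mul_mem (Subgroup.mem_sup_left (hAW w hw y hy)) (zpow_mem ?_ i)
      refine Subgroup.mem_sup_right ?_
      by_cases hwK : w ∈ K₀
      · rw [haf w hwK]; exact Subgroup.mem_zpowers a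
      · rw [hai w hw hwK]; exact inv_mem (Subgroup.mem_zpowers a)
    · intro K hK hKs b hb
      rw [Finset.mem_insert, not_or] at hKs
      obtain ⟨hbA, hbA'⟩ := hAx K hK hKs.2 b hb
      have hab : a * b = b * a := hne K₀ K hK₀T hK (Ne.symm hKs.1) a b haE hb
      refine ⟨fun x hx => ?_, fun hbx => ?_⟩
      · obtain ⟨y, hy, i, rfl⟩ := hmem x hx
        exact ((show Commute y b from hbA y hy).mul_left (Commute.zpow_left hab i)).eq
      · obtain ⟨y, hy, i, hyi⟩ := hmem b hbx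
        obtain ⟨hbR, hbf, hbi⟩ := hb
        suffices hai1 : a ^ i = 1 by
          rw [hai1, mul_one] at hyi
          exact hbA' (hyi ▸ hy)
        obtain ⟨w, hwW, hw⟩ : ∃ w ∈ W, (w ∈ K₀ ∧ w ∉ K) ∨ (w ∈ K ∧ w ∉ K₀) := by
          by_contra h
          push Not at h
          exact hKs.1 (le_antisymm (fun z hz => (h z (hK.1 hz)).2 hz)
            (fun z hz => (h z (hK₀W hz)).1 hz))
        have hw' : w * b * w⁻¹ = (w * y * w⁻¹) * (w * a * w⁻¹) ^ i := by
          rw [hyi, conj_zpow, conj_mul]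
        have hsq : ∃ z ∈ A, a ^ i * a ^ i = z := by
          rcases hw with ⟨h0, h1⟩ | ⟨h1, h0⟩
          · rw [hbi w hwW h1, haf w h0, hyi, mul_inv_rev] at hw'
            refine ⟨(w * y * w⁻¹)⁻¹ * y⁻¹, mul_mem (inv_mem (hAW w hwW y hy)) (inv_mem hy), ?_⟩
            have h' : y⁻¹ = a ^ i * ((w * y * w⁻¹) * a ^ i) := by rw [← hw']; group
            rw [← mul_assoc, (hpow _ (hAW w hwW y hy) i).eq, mul_assoc] at h'
            rw [h']; group
          · rw [hbf w h1, hai w hwW h0, hyi, inv_zpow] at hw'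
            refine ⟨y⁻¹ * (w * y * w⁻¹), mul_mem (inv_mem hy) (hAW w hwW y hy), ?_⟩
            calc a ^ i * a ^ i = y⁻¹ * (y * a ^ i) * a ^ i := by group
              _ = y⁻¹ * (w * y * w⁻¹) := by rw [hw']; group
        obtain ⟨z, hz, hzz⟩ := hsq
        have hai2 : E K₀ (a ^ i * a ^ i) := by
          refine ⟨mul_mem (zpow_mem haR i) (zpow_mem haR i), fun v hv => ?_, fun v hv hv' => ?_⟩
          · rw [← conj_mul, ← conj_zpow, haf v hv]
          · rw [← conj_mul, ← conj_zpow, hai v hv hv', inv_zpow, mul_inv_rev]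
        exact hoddR _ (zpow_mem haR i) ((hAx K₀ hK₀T hK₀ _ hai2).2 (hzz ▸ hz))

end Cfsg.Agent.ConjInvol
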