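import Cfsg.Agent.Lib.Solvable.Coprime
import Cfsg.Agent.Lib.Suzuki2.Free
import Cfsg.Agent.Lib.Functors.Critical

/-!
Tools for solvable groups with one class of involutions: an abelian group of odd order acting
faithfully on an elementary abelian 2-group is no larger than it, and elements of order at most
four detect odd automorphisms of a critical subgroup.
-/

set_option autoImplicit false
set_option linter.unusedSectionVars false
set_option linter.style.haveILetI false

namespace Cfsg.Agent.ConjInvol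

/-- An element fixed up to a fixed factor of two-power order, by an element of odd order. -/
theorem fix_of_shift {M : Type*} [Monoid M] {Q : Type*} [Group Q] (φ : M →* MulAut Q)
    (hQ : IsPGroup 2 Q) {a : M} {n : ℕ} (hn : Odd n) (han : a ^ n = 1) {x z : Q}
    (hx : φ a x = z * x) (hz : φ a z = z) : φ a x = x := by
  have hp : ∀ j : ℕ, φ (a ^ j) x = z ^ j * x := by
    intro j
    induction j with
    | zero => simp
    | succ j ih => rw [pow_succ', map_mul, MulAut.mul_apply, ih, map_mul, map_pow, hz, hx,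
        ← mul_assoc, ← pow_succ]
  have h1 := hp n
  rw [han, map_one, MulAut.one_apply, right_eq_mul] at h1
  obtain ⟨k, hk⟩ := hQ z
  have h2 : z ^ Nat.gcd n (2 ^ k) = 1 := pow_gcd_eq_one.2 ⟨h1, hk⟩
  rw [((Nat.coprime_two_right.2 hn).pow_right k).gcd_eq_one, pow_one] at h2
  rw [hx, h2, one_mul]

variable {A : Type*} [CommGroup A] [Finite A] {Q : Type*} [CommGroup Q] [Finite Q]

/-- The elements acting trivially on a subgroup. -/
def fixing (φ : A →* MulAut Q) (B : Subgroup Q) : Subgroup A where
  carrier := {a | ∀ x ∈ B, φ a x = x}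
  one_mem' := fun x _ => by simp
  mul_mem' := fun {a b} ha hb x hx => by rw [map_mul, MulAut.mul_apply, hb x hx, ha x hx]
  inv_mem' := fun {a} ha x hx => by
    rw [map_inv]
    conv_lhs => rw [← ha x hx]
    exact MulAut.inv_apply_self _ _ _

/-- An abelian group of odd order acts on a subgroup through a quotient no larger than it. -/
theorem index_fixing_le (φ : A →* MulAut Q) (hA : Odd (Nat.card A)) (hQ : IsPGroup 2 Q)
    (B : Subgroup Q) (hB : ∀ a, ∀ x ∈ B, φ a x ∈ B) :
    (fixing φ B).index ≤ Nat.card B := by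
  induction h : Nat.card B using Nat.strong_induction_on generalizing B with
  | _ n ih =>
  subst h
  have hpowA : ∀ a : A, a ^ Nat.card A = 1 := fun a => pow_card_eq_one'
  by_cases hsplit : ∃ a : A, a ∉ fixing φ B ∧ ∃ x ∈ B, x ≠ 1 ∧ φ a x = x
  · obtain ⟨a, ha, x₀, hx₀, hx₁, hfix⟩ := hsplit
    let d : B →* Q :=
      { toFun := fun x => φ a (x : Q) * (x : Q)⁻¹
        map_one' := by simp
        map_mul' := fun x y => by
          simp only [Subgroup.coe_mul, map_mul, mul_inv_rev]
          ac_rfl }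
    have hd : ∀ x : B, d x = φ a (x : Q) * (x : Q)⁻¹ := fun _ => rfl
    set I : Subgroup Q := d.range with hI
    set C : Subgroup Q := d.ker.map B.subtype with hC
    have hIB : I ≤ B := by
      rintro _ ⟨x, rfl⟩
      exact mul_mem (hB a x x.2) (inv_mem x.2)
    have hCB : C ≤ B := Subgroup.map_subtype_le _
    have hCmem : ∀ x, x ∈ C ↔ x ∈ B ∧ φ a x = x := by
      intro x
      constructor
      · rintro ⟨y, hy, rfl⟩
        rw [SetLike.mem_coe, MonoidHom.mem_ker, hd, mul_inv_eq_one] at hy
        exact ⟨y.2, hy⟩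
      · rintro ⟨hx, hxa⟩
        exact ⟨⟨x, hx⟩, by rw [SetLike.mem_coe, MonoidHom.mem_ker, hd, mul_inv_eq_one]; exact hxa, rfl⟩
    have hcomm : ∀ (b : A) (y : Q), φ a (φ b y) = φ b (φ a y) := fun b y => by
      rw [← MulAut.mul_apply, ← map_mul, mul_comm, map_mul, MulAut.mul_apply]
    have hCinv : ∀ b, ∀ x ∈ C, φ b x ∈ C := fun b x hx => by
      rw [hCmem] at hx ⊢
      exact ⟨hB b x hx.1, by rw [hcomm, hx.2]⟩
    have hIinv : ∀ b, ∀ x ∈ I, φ b x ∈ I := by
      rintro b _ ⟨x, rfl⟩
      refine ⟨⟨φ b x, hB b x x.2⟩, ?_⟩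
      rw [hd, hd, map_mul, map_inv, hcomm]
    have hdisj : Disjoint I C := by
      rw [Subgroup.disjoint_def]
      rintro _ ⟨x, rfl⟩ hxC
      have hz := ((hCmem _).1 hxC).2
      have h1 : φ a (x : Q) = d x * (x : Q) := by rw [hd, inv_mul_cancel_right]
      have := fix_of_shift φ hQ hA (hpowA a) h1 hz
      rw [hd, this, mul_inv_cancel]
    have hcard : Nat.card I * Nat.card C = Nat.card B := by
      rw [hC, Subgroup.card_map_of_injective B.subtype_injective,
        Subgroup.card_eq_card_quotient_mul_card_subgroup d.ker,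
        Nat.card_congr (QuotientGroup.quotientKerEquivRange d).toEquiv]
    have hsup : I ⊔ C = B := by
      refine Subgroup.eq_of_le_of_card_ge (sup_le hIB hCB) (le_of_eq ?_)
      rw [← hcard]
      refine (SolvBasic.card_sup_of_inf_eq_bot ?_ hdisj.eq_bot).symm
      exact Subgroup.le_normalizer_of_normal
    have hClt : Nat.card C < Nat.card B := by
      refine lt_of_le_of_ne (Subgroup.card_le_of_le hCB) fun h => ha fun x hx => ?_
      rw [← Subgroup.eq_of_le_of_card_ge hCB h.ge] at hx
      exact ((hCmem x).1 hx).2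
    have hIlt : Nat.card I < Nat.card B := by
      have h1 : 1 < Nat.card C :=
        (Subgroup.one_lt_card_iff_ne_bot C).2 fun h => hx₁ (Subgroup.mem_bot.1 (h ▸ (hCmem x₀).2 ⟨hx₀, hfix⟩))
      nlinarith [Nat.card_pos (α := I)]
    have hle : fixing φ I ⊓ fixing φ C ≤ fixing φ B := by
      intro b hb x hx
      rw [← hsup] at hx
      obtain ⟨i, hi, c, hc, rfl⟩ := Subgroup.mem_sup.1 hx
      rw [map_mul, hb.1 i hi, hb.2 c hc]
    calc (fixing φ B).index ≤ (fixing φ I ⊓ fixing φ C).index :=
          Nat.le_of_dvd (Nat.pos_of_ne_zero Subgroup.index_ne_zero_of_finite)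
            (Subgroup.index_dvd_of_le hle)
      _ ≤ (fixing φ I).index * (fixing φ C).index := Subgroup.index_inf_le
      _ ≤ Nat.card I * Nat.card C :=
          Nat.mul_le_mul (ih _ hIlt I hIinv rfl) (ih _ hClt C hCinv rfl)
      _ = Nat.card B := hcard
  · push Not at hsplit
    rcases eq_or_ne B ⊥ with hbot | hbot
    · have : fixing φ B = ⊤ := top_le_iff.1 fun b _ x hx => by
        rw [hbot, Subgroup.mem_bot] at hx
        rw [hx, map_one]
      rw [this, Subgroup.index_top]
      exact Nat.card_pos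
    · obtain ⟨x₀, hx₀, hx₁⟩ := (Subgroup.bot_or_exists_ne_one B).resolve_left hbot
      letI : MulAction A Q := MulAction.compHom Q φ
      have hst : MulAction.stabilizer A x₀ ≤ fixing φ B := by
        intro b hb
        by_contra hn
        exact hsplit b hn x₀ hx₀ hx₁ hb
      have hsub : MulAction.orbit A x₀ ⊆ (B : Set Q) := by
        rintro _ ⟨b, rfl⟩
        exact hB b x₀ hx₀
      calc (fixing φ B).index ≤ (MulAction.stabilizer A x₀).index :=
            Nat.le_of_dvd (Nat.pos_of_ne_zero Subgroup.index_ne_zero_of_finite)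
              (Subgroup.index_dvd_of_le hst)
        _ = (MulAction.orbit A x₀).ncard := MulAction.index_stabilizer A x₀
        _ ≤ (B : Set Q).ncard := Set.ncard_le_ncard hsub (Set.toFinite _)
        _ = Nat.card B := rfl

/-- An abelian group of odd order acting faithfully on an abelian 2-group is no larger than it. -/
theorem card_le_of_faithful (φ : A →* MulAut Q) (hA : Odd (Nat.card A)) (hQ : IsPGroup 2 Q)
    (hinj : ∀ a, (∀ x, φ a x = x) → a = 1) : Nat.card A ≤ Nat.card Q := by
  have h := index_fixing_le φ hA hQ ⊤ (fun _ _ _ => Subgroup.mem_top _)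
  have hbot : fixing φ (⊤ : Subgroup Q) = ⊥ :=
    le_bot_iff.1 fun a ha => hinj a fun x => ha x (Subgroup.mem_top x)
  rwa [hbot, Subgroup.index_bot, Subgroup.card_top] at h

/-- An elementary abelian 2-group in coordinates. -/
theorem exists_coords {W : Type*} [CommGroup W] [Finite W] (h2 : ∀ w : W, w * w = 1) :
    ∃ (n : ℕ) (ψ : W → Fin n → ZMod 2), Nat.card W = 2 ^ n ∧
      (∀ a b, ψ (a * b) = ψ a + ψ b) ∧ Function.Injective ψ := by
  letI : Module (ZMod 2) (Additive W) := AddCommGroup.zmodModule fun x => by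
    apply Additive.toMul.injective
    rw [toMul_nsmul, toMul_zero, pow_two, h2]
  haveI : Finite (Additive W) := ‹Finite W›
  haveI : Module.Finite (ZMod 2) (Additive W) := Module.Finite.of_finite
  let e := (Module.finBasis (ZMod 2) (Additive W)).equivFun
  refine ⟨Module.finrank (ZMod 2) (Additive W), fun w => e (Additive.ofMul w), ?_,
    fun a b => by simp only [ofMul_mul, map_add], fun a b h => Additive.ofMul.injective (e.injective h)⟩
  have := Module.natCard_eq_pow_finrank (K := ZMod 2) (V := Additive W)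
  rwa [Nat.card_zmod, Nat.card_congr Additive.toMul] at this

/-- Squares of commutators when squares are central. -/
theorem comm_facts {H : Type*} [Group H] (x y : H) (hx : ∀ t : H, t * (x * x) = x * x * t)
    (hc : ∀ t : H, t * (x⁻¹ * y * x * y⁻¹) = x⁻¹ * y * x * y⁻¹ * t) :
    (x⁻¹ * y * x * y⁻¹) * (x⁻¹ * y * x * y⁻¹) = 1 := by
  generalize hcd : x⁻¹ * y * x * y⁻¹ = c at hc ⊢
  have h1 : x⁻¹ * y * x = c * y := by rw [← hcd]; group
  have h2 : x⁻¹ * (x⁻¹ * y * x) * x = y := by
    rw [show x⁻¹ * (x⁻¹ * y * x) * x = (x * x)⁻¹ * (y * (x * x)) by group, hx y]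
    group
  rw [h1, show x⁻¹ * (c * y) * x = (x⁻¹ * c) * y * x by group, hc x⁻¹,
    show c * x⁻¹ * y * x = c * (x⁻¹ * y * x) by group, h1, ← mul_assoc] at h2
  exact mul_eq_right.1 h2

/-- An automorphism of odd order fixing the elements of order at most four of a 2-group of class
two with central squares is trivial. -/
theorem eq_of_fix_four {M : Type*} [Monoid M] {H : Type*} [Group H] (φ : M →* MulAut H)
    (hH : IsPGroup 2 H) (hsq : ∀ x t : H, t * (x * x) = x * x * t)
    (hcomm : ∀ x y t : H, t * (x⁻¹ * y * x * y⁻¹) = x⁻¹ * y * x * y⁻¹ * t)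
    {a : M} {n : ℕ} (hn : Odd n) (han : a ^ n = 1)
    (h4 : ∀ x : H, x ^ 4 = 1 → φ a x = x) : ∀ x : H, φ a x = x := by
  suffices h : ∀ (k : ℕ) (x : H), x ^ 2 ^ k = 1 → φ a x = x by
    intro x
    obtain ⟨k, hk⟩ := hH x
    exact h k x hk
  intro k
  induction k with
  | zero =>
    intro x hx
    rw [pow_zero, pow_one] at hx
    rw [hx, map_one]
  | succ k ih =>
    intro x hx
    have hx2 : φ a (x * x) = x * x := ih _ (by rw [← pow_two, ← pow_mul, ← pow_succ', hx])
    generalize hy : φ a x = y
    have hyy : y * y = x * x := by rw [← hy, ← map_mul, hx2]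
    generalize hz : y * x⁻¹ = z
    have hcd : ∃ c, c = x⁻¹ * y * x * y⁻¹ := ⟨_, rfl⟩
    obtain ⟨c, hc⟩ := hcd
    have hct : ∀ t, t * c = c * t := fun t => by rw [hc]; exact hcomm x y t
    have hc2 : c * c = 1 := by rw [hc]; exact comm_facts x y (hsq x) (hcomm x y)
    have hz2 : z * z = c := by
      calc z * z = y * (x⁻¹ * y * x * y⁻¹) * y * x⁻¹ * x⁻¹ := by rw [← hz]; group
        _ = c * (y * y) * (x * x)⁻¹ := by rw [← hc, hct y]; group
        _ = c := by rw [hyy, mul_inv_cancel_right]
    have hz4 : z ^ 4 = 1 := by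
      rw [show z ^ 4 = z * z * (z * z) by simp [pow_succ, mul_assoc], hz2, hc2]
    have hxz : φ a x = z * x := by rw [hy, ← hz, inv_mul_cancel_right]
    exact hy.symm.trans (fix_of_shift φ hH hn han hxz (h4 z hz4))

end Cfsg.Agent.ConjInvol
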