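import Cfsg.Agent.Lib.ConjInvol.Axes
import Cfsg.Agent.Lib.ConjInvol.Tools

/-!
The two estimates for a solvable group with one class of involutions.
-/

set_option autoImplicit false
set_option linter.unusedSectionVars false
set_option linter.style.haveILetI false

namespace Cfsg.Agent.ConjInvol

open scoped commutatorElement Pointwise

universe u

variable {G : Type u} [Group G] [Finite G]

theorem z2_sum : ∀ a b c : ZMod 2, a + b + c + a + c = b := by decide

theorem z2_def : ∀ a b d : ZMod 2, d = a + b + (d + a + b) := by decide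

/-- An abelian subgroup of odd order, centralizing the involutions and faithful on the 2-core,
has order at most the square of the number of elements squaring to one. -/
theorem card_abelian_le (P U A : Subgroup G) [P.Normal] [U.Normal] (hP : IsPGroup 2 P)
    (hCP : Subgroup.centralizer (P : Set G) ≤ P) (hU : ∀ x, x ∈ U ↔ x * x = 1)
    (hUP : U ≤ P) (hUc : P ≤ Subgroup.centralizer (U : Set G)) {n : ℕ}
    (hn : Nat.card U = 2 ^ n) (hA : Odd (Nat.card A)) (hAc : IsMulCommutative A)
    (hAU : A ≤ Subgroup.centralizer (U : Set G)) : Nat.card A ≤ 2 ^ (2 * n) := by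
  classical
  haveI : Fact (Nat.Prime 2) := ⟨Nat.prime_two⟩
  obtain ⟨H, hH⟩ := Critical.exists_critical hP
  haveI := hH.char
  set J : Subgroup G := H.map P.subtype with hJ
  haveI hJn : J.Normal := FittingCores.normal_map_of_characteristic inferInstance hH.char
  have hJP : J ≤ P := Subgroup.map_subtype_le _
  have hJmem : ∀ (x : P), (x : G) ∈ J ↔ x ∈ H := fun x =>
    Subgroup.mem_map_iff_mem P.subtype_injective
  have hsq : ∀ x ∈ J, ∀ t ∈ J, t * (x * x) = x * x * t := by
    intro x hx t ht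
    obtain ⟨x, hx, rfl⟩ := hx
    obtain ⟨t, ht, rfl⟩ := ht
    have h : x * x ∈ Subgroup.centralizer (H : Set P) := by
      rw [← pow_two]; exact (hH.pow x hx).2
    exact congrArg Subtype.val (Subgroup.mem_centralizer_iff.1 h t ht)
  have hcm : ∀ x ∈ J, ∀ y ∈ J, ∀ t ∈ J,
      t * (x⁻¹ * y * x * y⁻¹) = x⁻¹ * y * x * y⁻¹ * t := by
    intro x hx y hy t ht
    obtain ⟨x, hx, rfl⟩ := hx
    obtain ⟨y, hy, rfl⟩ := hy
    obtain ⟨t, ht, rfl⟩ := ht
    have h : ⁅x⁻¹, y⁆ ∈ H ⊓ Subgroup.centralizer (H : Set P) :=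
      hH.comm (Subgroup.commutator_mem_commutator (Subgroup.mem_top _) hy)
    have h' := Subgroup.mem_centralizer_iff.1 h.2 t ht
    have := congrArg Subtype.val h'
    simpa [commutatorElement_def, mul_assoc] using this
  have hUJ : U ≤ J := fun u hu => (hJmem ⟨u, hUP hu⟩).2 (hH.cent
    (Subgroup.mem_centralizer_iff.2 fun y _ => Subtype.ext
      (Subgroup.mem_centralizer_iff.1 (hUc y.2) u hu).symm))
  have hUcomm : ∀ u ∈ U, ∀ y ∈ J, u * y = y * u := fun u hu y hy =>
    Subgroup.mem_centralizer_iff.1 (hUc (hJP hy)) u hu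
  have hsqU : ∀ x : G, x ^ 4 = 1 → x * x ∈ U := fun x hx => (hU _).2 (by
    rw [← hx]; simp [pow_succ, mul_assoc])
  have hcU : ∀ x ∈ J, ∀ y ∈ J, x⁻¹ * y * x * y⁻¹ ∈ U := fun x hx y hy => (hU _).2
    (congrArg Subtype.val (comm_facts (⟨x, hx⟩ : J) ⟨y, hy⟩
      (fun t => Subtype.ext (hsq x hx _ t.2)) (fun t => Subtype.ext (hcm x hx y hy _ t.2))))
  have hprod : ∀ x y : G, x * y * (x * y) = x * x * (x⁻¹ * y * x * y⁻¹) * (y * y) := fun x y => by
    group
  let X : Subgroup G :=
    { carrier := {x | x ∈ J ∧ x ^ 4 = 1}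
      one_mem' := ⟨one_mem _, one_pow _⟩
      mul_mem' := fun {x y} hx hy => ⟨mul_mem hx.1 hy.1, by
        have h := (hU _).1 (mul_mem (mul_mem (hsqU x hx.2) (hcU x hx.1 y hy.1)) (hsqU y hy.2))
        rw [← hprod] at h
        rw [← h]; simp [pow_succ, mul_assoc]⟩
      inv_mem' := fun {x} hx => ⟨inv_mem hx.1, by rw [inv_pow, hx.2, inv_one]⟩ }
  haveI hXn : X.Normal := ⟨fun x hx g => ⟨hJn.conj_mem x hx.1 g, by
    rw [conj_pow, hx.2]; group⟩⟩
  have hXJ : X ≤ J := fun x hx => hx.1
  have hUX : U ≤ X := fun u hu => ⟨hUJ hu, by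
    rw [show u ^ 4 = u * u * (u * u) by simp [pow_succ, mul_assoc], (hU u).1 hu, one_mul]⟩
  have hX2 : IsPGroup 2 X := hP.to_le (hXJ.trans hJP)
  set N : Subgroup X := U.subgroupOf X with hN
  haveI : N.Normal := inferInstance
  have hQsq : ∀ z : X ⧸ N, z * z = 1 := fun z => by
    induction z using QuotientGroup.induction_on with
    | _ x => exact (QuotientGroup.eq_one_iff (x * x)).2 (hsqU _ x.2.2)
  letI : CommGroup (X ⧸ N) :=
    { (inferInstance : Group (X ⧸ N)) with
      mul_comm := fun a b => by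
        have ha : a⁻¹ = a := inv_eq_of_mul_eq_one_right (hQsq a)
        have hb : b⁻¹ = b := inv_eq_of_mul_eq_one_right (hQsq b)
        calc a * b = (a * b)⁻¹ := (inv_eq_of_mul_eq_one_right (hQsq _)).symm
          _ = b * a := by rw [mul_inv_rev, ha, hb] }
  letI : CommGroup A := { (inferInstance : Group A) with mul_comm := hAc.is_comm.comm }
  have hcongr : ∀ g : G, N.map ((MulAut.conjNormal g : MulAut X) : X →* X) = N := by
    intro g
    refine le_antisymm ?_ ?_
    · rintro _ ⟨x, hx, rfl⟩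
      show ((MulAut.conjNormal g x : X) : G) ∈ U
      rw [MulAut.conjNormal_apply]
      exact ‹U.Normal›.conj_mem _ hx g
    · intro x hx
      refine ⟨(MulAut.conjNormal g)⁻¹ x, ?_, ?_⟩
      · show (((MulAut.conjNormal g)⁻¹ x : X) : G) ∈ U
        rw [MulAut.conjNormal_inv_apply]
        simpa using ‹U.Normal›.conj_mem _ hx g⁻¹
      · exact MulAut.apply_inv_self _ _ _
  let φ₀ : A → MulAut (X ⧸ N) := fun a =>
    QuotientGroup.congr N N (MulAut.conjNormal (a : G)) (hcongr _)
  have hφ₀ : ∀ (a : A) (x : X), φ₀ a (x : X ⧸ N) = ((MulAut.conjNormal (a : G) x : X) : X ⧸ N) :=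
    fun a x => rfl
  let φ : A →* MulAut (X ⧸ N) :=
    { toFun := φ₀
      map_one' := by
        ext z
        induction z using QuotientGroup.induction_on with
        | _ x => rw [hφ₀, OneMemClass.coe_one, map_one, MulAut.one_apply, MulAut.one_apply]
      map_mul' := fun a b => by
        ext z
        induction z using QuotientGroup.induction_on with
        | _ x => rw [MulAut.mul_apply, hφ₀, hφ₀, hφ₀, Subgroup.coe_mul, map_mul, MulAut.mul_apply] }
  have hQ2 : IsPGroup 2 (X ⧸ N) := hX2.to_quotient N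
  have hpow : ∀ a : A, (a : G) ^ Nat.card A = 1 := fun a => by
    rw [← Subgroup.coe_pow, pow_card_eq_one', Subgroup.coe_one]
  have hfaith : ∀ a : A, (∀ z, φ a z = z) → a = 1 := by
    intro a ha
    have hfixX : ∀ x : X, MulAut.conjNormal (a : G) x = x := by
      intro x
      set y : X := MulAut.conjNormal (a : G) x with hy
      have hz : y * x⁻¹ ∈ N := by
        have h : (y : X ⧸ N) = (x : X ⧸ N) := (hφ₀ a x).symm.trans (ha _)
        rw [← QuotientGroup.eq_one_iff, QuotientGroup.mk_mul, QuotientGroup.mk_inv, h, mul_inv_cancel]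
      refine fix_of_shift (MulAut.conjNormal (H := X)) hX2 hA (hpow a) (z := y * x⁻¹)
        (inv_mul_cancel_right y x).symm ?_
      refine Subtype.ext ?_
      have hzU : ((y * x⁻¹ : X) : G) ∈ U := hz
      have h := Subgroup.mem_centralizer_iff.1 (hAU a.2) _ hzU
      rw [MulAut.conjNormal_apply, ← h, mul_inv_cancel_right]
    have hfixJ : ∀ x : J, MulAut.conjNormal (a : G) x = x :=
      eq_of_fix_four (MulAut.conjNormal (H := J)) (hP.to_le hJP)
        (fun x t => Subtype.ext (hsq _ x.2 _ t.2))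
        (fun x y t => Subtype.ext (hcm _ x.2 _ y.2 _ t.2)) hA (hpow a) fun x hx => by
          have hxX : (x : G) ∈ X := ⟨x.2, by
            rw [← Subgroup.coe_pow, hx, Subgroup.coe_one]⟩
          have := congrArg Subtype.val (hfixX ⟨x, hxX⟩)
          exact Subtype.ext (by simpa [MulAut.conjNormal_apply] using this)
    have hone : (MulAut.conjNormal (a : G) : MulAut P) = 1 := by
      refine hH.mulAut_eq_one' hP ?_ fun x hx => ?_
      · refine Nat.Coprime.coprime_dvd_left ?_ (Nat.coprime_two_right.2 hA)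
        exact orderOf_dvd_of_pow_eq_one (by rw [← map_pow, hpow, map_one])
      · have := congrArg Subtype.val (hfixJ ⟨x, (hJmem x).2 hx⟩)
        exact Subtype.ext (by simpa [MulAut.conjNormal_apply] using this)
    have haP : (a : G) ∈ P := hCP (Subgroup.mem_centralizer_iff.2 fun y hy => by
      have := congrArg (fun e : MulAut P => ((e ⟨y, hy⟩ : P) : G)) hone
      simp only [MulAut.conjNormal_apply, MulAut.one_apply] at this
      conv_lhs => rw [← this]
      group)
    obtain ⟨k, hk⟩ := hP ⟨(a : G), haP⟩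
    have h2 : (a : G) ^ 2 ^ k = 1 := congrArg Subtype.val hk
    have h3 : (a : G) ^ Nat.gcd (Nat.card A) (2 ^ k) = 1 := pow_gcd_eq_one.2 ⟨hpow a, h2⟩
    rw [((Nat.coprime_two_right.2 hA).pow_right k).gcd_eq_one, pow_one] at h3
    exact Subtype.ext h3
  refine (card_le_of_faithful φ hA hQ2 hfaith).trans ?_
  -- the squaring map is an anisotropic system of quadratic forms
  letI : CommGroup U :=
    { (inferInstance : Group U) with
      mul_comm := fun a b => Subtype.ext (hUcomm _ a.2 _ (hUJ b.2)) }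
  obtain ⟨m, ψ, hm, hψ, hψinj⟩ := exists_coords (W := U) fun w => Subtype.ext ((hU _).1 w.2)
  obtain rfl : m = n := Nat.pow_right_injective le_rfl (hm.symm.trans hn)
  let s : X → U := fun x => ⟨(x : G) * x, hsqU _ x.2.2⟩
  have hs : ∀ x x' : X, (x : X ⧸ N) = (x' : X ⧸ N) → s x = s x' := by
    intro x x' h
    obtain ⟨z, hz, rfl⟩ : ∃ z ∈ N, x' = x * z :=
      ⟨x⁻¹ * x', QuotientGroup.eq.1 h, (mul_inv_cancel_left x x').symm⟩
    refine Subtype.ext ?_
    have hc := hUcomm (z : G) hz (x : G) x.2.1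
    show (x : G) * x = (x : G) * z * ((x : G) * z)
    rw [show (x : G) * z * ((x : G) * z) = x * ((z : G) * x) * z by group, hc,
      show (x : G) * (x * z) * z = x * x * ((z : G) * z) by group, (hU (z : G)).1 (show (z : G) ∈ U from hz), mul_one]
  let q : X ⧸ N → Fin m → ZMod 2 := fun z => ψ (s z.out)
  have hqx : ∀ x : X, q (x : X ⧸ N) = ψ (s x) := fun x =>
    congrArg ψ (hs _ _ (QuotientGroup.out_eq' _))
  let c : X → X → U := fun x y => ⟨(x : G)⁻¹ * y * x * (y : G)⁻¹, hcU _ x.2.1 _ y.2.1⟩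
  have hbx : ∀ x y : X,
      q ((x : X ⧸ N) * (y : X ⧸ N)) + q (x : X ⧸ N) + q (y : X ⧸ N) = ψ (c x y) := by
    intro x y
    rw [← QuotientGroup.mk_mul, hqx, hqx, hqx,
      show s (x * y) = s x * c x y * s y from Subtype.ext (hprod _ _), hψ, hψ]
    funext i
    simp only [Pi.add_apply]
    exact z2_sum _ _ _
  refine Suzuki2.card_le_of_aniso hQsq q (fun z z' => q (z * z') + q z + q z')
    (fun x y => ?_) (fun x y z => ?_) (fun z hz => ?_)
  · funext i
    simp only [Pi.add_apply]
    exact z2_def _ _ _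
  · induction x using QuotientGroup.induction_on with
    | _ x =>
    induction y using QuotientGroup.induction_on with
    | _ y =>
    induction z using QuotientGroup.induction_on with
    | _ z =>
    rw [← QuotientGroup.mk_mul N x y, hbx, hbx, hbx, ← hψ]
    congr 1
    refine Subtype.ext ?_
    show ((x : G) * y)⁻¹ * z * (x * y) * (z : G)⁻¹ =
      (x : G)⁻¹ * z * x * (z : G)⁻¹ * ((y : G)⁻¹ * z * y * (z : G)⁻¹)
    have hc := hUcomm _ (hcU _ x.2.1 _ z.2.1) (y : G)⁻¹ (inv_mem y.2.1)
    calc ((x : G) * y)⁻¹ * z * (x * y) * (z : G)⁻¹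
        = ((y : G)⁻¹ * ((x : G)⁻¹ * z * x * (z : G)⁻¹)) * (z * y * (z : G)⁻¹) := by group
      _ = (((x : G)⁻¹ * z * x * (z : G)⁻¹) * (y : G)⁻¹) * (z * y * (z : G)⁻¹) := by rw [hc]
      _ = _ := by group
  · induction z using QuotientGroup.induction_on with
    | _ x =>
    have h1 : ψ 1 = 0 := by
      have h := hψ 1 1
      rw [one_mul] at h
      exact left_eq_add.1 h
    rw [hqx, ← h1] at hz
    exact (QuotientGroup.eq_one_iff x).2 ((hU _).2 (congrArg Subtype.val (hψinj hz)))

end Cfsg.Agent.ConjInvol
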