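import Cfsg.Agent.Lib.ConjInvol.Local

/-!
In a solvable group without odd normal subgroups whose involutions form one class of size more
than one, a Sylow 2-subgroup is normal.
-/

set_option autoImplicit false
set_option linter.unusedSectionVars false
set_option linter.style.haveILetI false

namespace Cfsg.Agent.ConjInvol

open scoped commutatorElement Pointwise

universe u

variable {G : Type u} [Group G] [Finite G]

theorem three_pow_gt : ∀ n : ℕ, 2 ≤ n → 2 ^ (2 * n) < 3 ^ (2 ^ n - 1) := by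
  intro n hn
  have h1 : ∀ m : ℕ, 2 * (m + 3) ≤ 2 ^ (m + 3) - 1 := by
    intro m
    induction m with
    | zero => norm_num
    | succ m ih => have := pow_succ 2 (m + 3); rw [show m + 1 + 3 = m + 3 + 1 from rfl]; omega
  rcases eq_or_lt_of_le hn with rfl | h
  · norm_num
  · obtain ⟨m, rfl⟩ : ∃ m, n = m + 3 := ⟨n - 3, by omega⟩
    exact lt_of_lt_of_le (Nat.pow_lt_pow_left (by norm_num) (by omega))
      (Nat.pow_le_pow_right (by norm_num) (h1 m))

theorem exists_involution {p : ℕ} [Fact p.Prime] {Z : Subgroup G} (hZ : IsPGroup p Z) (hne : Z ≠ ⊥) :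
    ∃ z ∈ Z, z ≠ 1 ∧ z ^ p = 1 := by
  have hd : p ∣ Nat.card Z :=
    hZ.card_eq_or_dvd.resolve_left fun h => hne (Subgroup.card_eq_one.1 h)
  obtain ⟨z, hz⟩ := exists_prime_orderOf_dvd_card' p hd
  refine ⟨z, z.2, fun h => ?_, ?_⟩
  · rw [← orderOf_eq_one_iff, Subgroup.orderOf_coe, hz] at h
    exact (Fact.out : p.Prime).one_lt.ne' h
  · rw [← Subgroup.coe_pow, ← hz, pow_orderOf_eq_one, Subgroup.coe_one]

theorem sylow_le_pCore [Group.IsSolvable G] (hO : Cfsg.pPrimeCore 2 G = ⊥)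
    (htwo : ∃ x y : G, x ≠ y ∧ x ≠ 1 ∧ x * x = 1 ∧ y ≠ 1 ∧ y * y = 1)
    (hconj : ∀ x y : G, x ≠ 1 → x * x = 1 → y ≠ 1 → y * y = 1 → ∃ g : G, g * x * g⁻¹ = y)
    (S : Sylow 2 G) : (S : Subgroup G) ≤ Cfsg.pCore 2 G := by
  classical
  haveI : Fact (Nat.Prime 2) := ⟨Nat.prime_two⟩
  obtain ⟨x₀, y₀, hxy, hx1, hxx, hy1, hyy⟩ := htwo
  set P := Cfsg.pCore 2 G with hPdef
  haveI hPn : P.Normal := FittingCores.pCore_normal 2
  have hP : IsPGroup 2 P := FittingCores.pCore_isPGroup 2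
  have hCP : Subgroup.centralizer (P : Set G) ≤ P := FittingCores.centralizer_pCore_le Nat.prime_two hO
  -- the involutions are central in the 2-core
  set Z := P ⊓ Subgroup.centralizer (P : Set G) with hZdef
  haveI hZn : Z.Normal := inferInstance
  have hZne : Z ≠ ⊥ := by
    intro hZ
    have hPb : P = ⊥ := by
      by_contra hne
      haveI : Nontrivial P := (Subgroup.nontrivial_iff_ne_bot P).2 hne
      obtain ⟨z, hz, hz1⟩ :=
        (Subgroup.bot_or_exists_ne_one (Subgroup.center P)).resolve_left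
          ((Subgroup.nontrivial_iff_ne_bot _).1 hP.center_nontrivial)
      refine hz1 (Subtype.ext (Subgroup.mem_bot.1 (hZ ▸ (?_ : (z : G) ∈ Z))))
      exact ⟨z.2, Subgroup.mem_centralizer_iff.2 fun y hy =>
        congrArg Subtype.val (Subgroup.mem_center_iff.1 hz ⟨y, hy⟩)⟩
    exact hx1 (Subgroup.mem_bot.1 (hPb ▸ hCP (Subgroup.mem_centralizer_iff.2 fun y hy => by
      rw [hPb, Subgroup.coe_bot, Set.mem_singleton_iff] at hy
      rw [hy, one_mul, mul_one])))
  have hinvZ : ∀ x : G, x * x = 1 → x ∈ Z := by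
    intro x hx
    rcases eq_or_ne x 1 with rfl | hx1
    · exact one_mem _
    obtain ⟨z, hz, hz1, hz2⟩ := exists_involution (hP.to_le inf_le_left) hZne
    obtain ⟨g, rfl⟩ := hconj z x hz1 (by rw [← pow_two, hz2]) hx1 hx
    exact hZn.conj_mem z hz g
  let U : Subgroup G :=
    { carrier := {x | x * x = 1}
      one_mem' := one_mul 1
      mul_mem' := fun {x y} (hx : x * x = 1) (hy : y * y = 1) => by
        have h := Subgroup.mem_centralizer_iff.1 (hinvZ x hx).2 y (hinvZ y hy).1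
        show x * y * (x * y) = 1
        rw [mul_assoc, ← mul_assoc y, h, mul_assoc, hy, mul_one, hx]
      inv_mem' := fun {x} (hx : x * x = 1) => by
        show x⁻¹ * x⁻¹ = 1
        rw [← mul_inv_rev, hx, inv_one] }
  have hU : ∀ x, x ∈ U ↔ x * x = 1 := fun _ => Iff.rfl
  haveI hUn : U.Normal := ⟨fun x hx g => by
    rw [hU] at hx ⊢
    rw [conj_mul, hx, mul_one, mul_inv_cancel]⟩
  have hUP : U ≤ P := fun x hx => (hinvZ x hx).1
  have hPU : P ≤ Subgroup.centralizer (U : Set G) := fun y hy =>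
    Subgroup.mem_centralizer_iff.2 fun u hu =>
      (Subgroup.mem_centralizer_iff.1 (hinvZ u hu).2 y hy).symm
  letI : CommGroup U :=
    { (inferInstance : Group U) with
      mul_comm := fun a b => Subtype.ext
        (Subgroup.mem_centralizer_iff.1 (hPU (hUP b.2)) a a.2) }
  obtain ⟨n, -, hn, -, -⟩ := exists_coords (W := U) fun w => Subtype.ext w.2
  have hn2 : 2 ≤ n := by
    by_contra h
    have h1 : Nat.card U ≤ 2 := hn ▸ (Nat.pow_le_pow_right (by norm_num) (by omega : n ≤ 1))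
    have h2 : ({1, x₀, y₀} : Set G).ncard ≤ (U : Set G).ncard :=
      Set.ncard_le_ncard (by rintro z (rfl | rfl | rfl); exacts [one_mem U, hxx, hyy]) (Set.toFinite _)
    rw [Set.ncard_eq_three.2 ⟨1, x₀, y₀, Ne.symm hx1, Ne.symm hy1, hxy, rfl⟩] at h2
    exact absurd (h2.trans h1) (by norm_num)
  set C := Subgroup.centralizer (U : Set G) with hCdef
  haveI hCn : C.Normal := inferInstance
  -- an involution fixed by a normal subgroup forces it into the centralizer of all of them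
  have hfixall : ∀ M : Subgroup G, M.Normal → (∃ u, u ≠ 1 ∧ u * u = 1 ∧ ∀ m ∈ M, m * u = u * m) →
      M ≤ C := by
    rintro M hM ⟨u, hu1, huu, hum⟩ m hm
    refine Subgroup.mem_centralizer_iff.2 fun v hv => ?_
    rcases eq_or_ne v 1 with rfl | hv1
    · rw [one_mul, mul_one]
    obtain ⟨g, rfl⟩ := hconj u v hu1 huu hv1 hv
    have h := hum _ (hM.conj_mem m hm g⁻¹)
    calc g * u * g⁻¹ * m = g * (u * (g⁻¹ * m * g⁻¹⁻¹)) * g⁻¹ := by group
      _ = m * (g * u * g⁻¹) := by rw [← h]; group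
  have hCtop : C ≠ ⊤ := by
    intro h
    obtain ⟨g, hg⟩ := hconj x₀ y₀ hx1 hxx hy1 hyy
    have := Subgroup.mem_centralizer_iff.1 (h.symm ▸ Subgroup.mem_top g : g ∈ C) x₀ hxx
    rw [← this, mul_inv_cancel_right] at hg
    exact hxy hg
  -- the centralizer of the involutions has odd index
  have hCodd : Odd C.index := by
    set π := QuotientGroup.mk' C with hπdef
    have hπ : Function.Surjective π := QuotientGroup.mk'_surjective C
    have htop : (⊤ : Subgroup (G ⧸ C)) ≠ ⊥ := fun h => hCtop (by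
      refine eq_top_iff.2 fun g _ => (QuotientGroup.eq_one_iff g).1 (Subgroup.mem_bot.1 (h ▸ ?_))
      exact Subgroup.mem_top _)
    haveI : Group.IsSolvable (G ⧸ C) := Group.isSolvable_of_surjective hπ
    obtain ⟨Mb, q, hq, hMbn, hMbne, -, -, -, hMbq, -⟩ :=
      SolvBasic.exists_minimal_normal_abelian (N := (⊤ : Subgroup (G ⧸ C))) inferInstance htop
    haveI := Fact.mk hq
    set M := Mb.comap π with hMdef
    haveI hMn : M.Normal := hMbn.comap π
    have hCM : C ≤ M := fun c hc => by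
      show π c ∈ Mb
      rw [show π c = 1 from (QuotientGroup.eq_one_iff c).2 hc]; exact one_mem _
    have hMC : ¬ M ≤ C := fun h => hMbne (le_bot_iff.1 fun z hz => by
      obtain ⟨m, rfl⟩ := hπ z
      exact Subgroup.mem_bot.2 ((QuotientGroup.eq_one_iff m).2 (h hz)))
    obtain ⟨Q₀⟩ := (inferInstance : Nonempty (Sylow q M))
    set Q := (Q₀ : Subgroup M).map M.subtype with hQdef
    have hQM : Q ≤ M := Subgroup.map_subtype_le _
    have hQq : IsPGroup q Q := Q₀.isPGroup'.map _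
    have hMCQ : M ≤ C ⊔ Q := by
      intro m hm
      let r : M →* Mb := π.subgroupComap Mb
      have hr : Function.Surjective r := π.subgroupComap_surjective_of_surjective Mb hπ
      have htp : ((Q₀.mapSurjective hr : Sylow q Mb) : Subgroup Mb) = ⊤ :=
        ((Q₀.mapSurjective hr).is_maximal' (hMbq.of_equiv Subgroup.topEquiv.symm) le_top).symm
      have : r ⟨m, hm⟩ ∈ ((Q₀ : Subgroup M).map r) := by
        have h := htp.symm ▸ Subgroup.mem_top (r ⟨m, hm⟩)
        exact h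
      obtain ⟨⟨z, hzM⟩, hz, hze⟩ := this
      have he : π z = π m := congrArg Subtype.val hze
      rw [show m = (m * z⁻¹) * z by group]
      refine mul_mem (Subgroup.mem_sup_left ((QuotientGroup.eq_one_iff _).1 ?_))
        (Subgroup.mem_sup_right ⟨_, hz, rfl⟩)
      show π (m * z⁻¹) = 1
      rw [map_mul, map_inv, he, mul_inv_cancel]
    have hnofix : ∀ u, u * u = 1 → (∀ z ∈ Q, z * u = u * z) → u = 1 := by
      intro u huu hzu
      by_contra hu1
      refine hMC (hfixall M hMn ⟨u, hu1, huu, fun m hm => ?_⟩)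
      have hle : C ⊔ Q ≤ Subgroup.centralizer {u} := by
        refine sup_le (fun c hc => ?_) fun z hz => ?_
        · exact Subgroup.mem_centralizer_singleton_iff.2
            (Subgroup.mem_centralizer_iff.1 hc u huu).symm
        · exact Subgroup.mem_centralizer_singleton_iff.2 (hzu z hz)
      exact Subgroup.mem_centralizer_singleton_iff.1 (hle (hMCQ hm))
    have hq2 : q ≠ 2 := by
      rintro rfl
      obtain ⟨T, hT⟩ := hQq.exists_le_sylow
      have hPT : P ≤ (T : Subgroup G) := FittingCores.pCore_le_sylow T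
      have hTne : (T : Subgroup G) ≠ ⊥ := fun h =>
        hx1 (Subgroup.mem_bot.1 (h ▸ hPT (hUP hxx)))
      haveI : Nontrivial (T : Subgroup G) := (Subgroup.nontrivial_iff_ne_bot _).2 hTne
      obtain ⟨z, hz, hz1, hz2⟩ := exists_involution
        (Z := (Subgroup.center (T : Subgroup G)).map (T : Subgroup G).subtype)
        ((T.isPGroup'.to_subgroup _).map _) (fun h => (Subgroup.nontrivial_iff_ne_bot _).1
          T.isPGroup'.center_nontrivial ((Subgroup.map_eq_bot_iff_of_injective _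
            (Subgroup.subtype_injective _)).1 h))
      obtain ⟨z, hzc, rfl⟩ := hz
      refine hz1 (hnofix _ (by rw [← pow_two, hz2]) fun w hw => ?_)
      exact congrArg Subtype.val (Subgroup.mem_center_iff.1 hzc ⟨w, hT hw⟩)
    have hNQ : Odd (Nat.card (Subgroup.normalizer (Q : Set G))) := by
      refine Nat.not_even_iff_odd.1 fun he => ?_
      have hd := he.two_dvd
      obtain ⟨i, hi⟩ := exists_prime_orderOf_dvd_card' 2 hd
      have hii : (i : G) * i = 1 := by
        rw [← pow_two, ← Subgroup.coe_pow, ← hi, pow_orderOf_eq_one, Subgroup.coe_one]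
      have hdisj : Disjoint U Q := IsPGroup.disjoint_of_ne 2 q hq2.symm U Q (hP.to_le hUP) hQq
      have h1 : (i : G) = 1 := hnofix _ hii fun z hz => by
        have hc1 : (i : G) * z * (i : G)⁻¹ * z⁻¹ ∈ Q :=
          mul_mem ((Subgroup.mem_normalizer_iff.1 i.2 z).1 hz) (inv_mem hz)
        have hc2 : (i : G) * z * (i : G)⁻¹ * z⁻¹ ∈ U := by
          rw [mul_assoc (i : G), mul_assoc (i : G)]
          exact mul_mem hii (hUn.conj_mem _ (inv_mem (show (i : G) ∈ U from hii)) z)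
        have h := Subgroup.disjoint_def.1 hdisj hc2 hc1
        rw [mul_inv_eq_one, mul_inv_eq_iff_eq_mul] at h
        exact h.symm
      rw [← orderOf_eq_one_iff, Subgroup.orderOf_coe, hi] at h1
      norm_num at h1
    have hfr : C ⊔ Subgroup.normalizer (Q : Set G) = ⊤ := by
      refine top_le_iff.1 ?_
      rw [← Sylow.normalizer_sup_eq_top Q₀]
      refine sup_le le_sup_right (hMCQ.trans (sup_le le_sup_left ?_))
      exact Subgroup.le_normalizer.trans le_sup_right
    have hmap : (Subgroup.normalizer (Q : Set G)).map π = ⊤ := by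
      rw [← Subgroup.map_top_of_surjective π hπ, ← hfr, Subgroup.map_sup,
        show C.map π = ⊥ from QuotientGroup.map_mk'_self C, bot_sup_eq]
    refine hNQ.of_dvd_nat ?_
    rw [Subgroup.index_eq_card, ← Subgroup.card_top (G := G ⧸ C), ← hmap]
    exact Subgroup.card_map_dvd _ _
  have hSC : (S : Subgroup G) ≤ C := by
    intro s hs
    obtain ⟨k, hk⟩ := S.isPGroup' ⟨s, hs⟩
    have h1 : (QuotientGroup.mk' C s) ^ 2 ^ k = 1 := by
      rw [← map_pow, show s ^ 2 ^ k = 1 from congrArg Subtype.val hk, map_one]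
    have h2 : (QuotientGroup.mk' C s) ^ C.index = 1 := by
      rw [Subgroup.index_eq_card]; exact pow_card_eq_one'
    have h3 := pow_gcd_eq_one.2 ⟨h2, h1⟩
    rw [((Nat.coprime_two_right.2 hCodd).pow_right k).gcd_eq_one, pow_one] at h3
    exact (QuotientGroup.eq_one_iff s).1 h3
  -- an odd subgroup normalizing S and transitive on involutions
  set NS := Subgroup.normalizer ((S : Subgroup G) : Set G) with hNSdef
  have hSN : (S : Subgroup G) ≤ NS := Subgroup.le_normalizer
  haveI : ((S : Subgroup G).subgroupOf NS).Normal :=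
    Subgroup.normal_subgroupOf_of_le_normalizer le_rfl
  have hidxodd : Odd ((S : Subgroup G).subgroupOf NS).index := by
    refine Nat.not_even_iff_odd.1 fun h => S.not_dvd_index ?_
    exact (even_iff_two_dvd.1 h).trans (Subgroup.relIndex_dvd_index_of_le hSN)
  obtain ⟨B, hB⟩ := Subgroup.exists_right_complement'_of_coprime
    (N := (S : Subgroup G).subgroupOf NS) (by
      rw [Nat.card_congr (Subgroup.subgroupOfEquivOfLe hSN).toEquiv]
      obtain ⟨k, hk⟩ := IsPGroup.iff_card.1 S.isPGroup'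
      rw [hk]
      exact (Nat.coprime_two_left.2 hidxodd).pow_left k)
  set L := B.map NS.subtype with hLdef
  have hLN : L ≤ NS := Subgroup.map_subtype_le _
  have hLodd : Odd (Nat.card L) := by
    rw [Subgroup.card_map_of_injective NS.subtype_injective, ← hB.symm.index_eq_card]
    exact hidxodd
  have hLtrans : ∀ u v : G, u ≠ 1 → u * u = 1 → v ≠ 1 → v * v = 1 →
      ∃ l ∈ L, l * u * l⁻¹ = v := by
    intro u v hu huu hv hvv
    obtain ⟨g, rfl⟩ := hconj u v hu huu hv hvv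
    have hfr : Subgroup.normalizer ((S : Subgroup G) : Set G) ⊔ C = ⊤ := by
      have h := Sylow.normalizer_sup_eq_top (S.subtype hSC)
      rwa [Sylow.coe_subtype, Subgroup.map_subgroupOf_eq_of_le hSC] at h
    obtain ⟨nn, hnn, c, hc, rfl⟩ :=
      Subgroup.mem_sup_of_normal_right.1 (hfr.symm ▸ Subgroup.mem_top g : g ∈ NS ⊔ C)
    obtain ⟨⟨s, b⟩, hsb⟩ := hB.2 ⟨nn, hnn⟩
    have hns : ((s : NS) : G) * ((b : NS) : G) = nn := congrArg Subtype.val hsb
    refine ⟨((b : NS) : G), ⟨_, b.2, rfl⟩, ?_⟩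
    have h1 : c * u * c⁻¹ = u := by
      rw [← Subgroup.mem_centralizer_iff.1 hc u huu, mul_inv_cancel_right]
    set u' := ((b : NS) : G) * u * ((b : NS) : G)⁻¹ with hu'
    have h2 : ((s : NS) : G) * u' * ((s : NS) : G)⁻¹ = u' := by
      have hsC : ((s : NS) : G) ∈ C := hSC s.2
      rw [← Subgroup.mem_centralizer_iff.1 hsC u' (hUn.conj_mem u huu _), mul_inv_cancel_right]
    calc u' = ((s : NS) : G) * u' * ((s : NS) : G)⁻¹ := h2.symm
      _ = nn * (c * u * c⁻¹) * nn⁻¹ := by rw [h1, ← hns, hu']; group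
      _ = nn * c * u * (nn * c)⁻¹ := by group
  -- suppose S is bigger than the 2-core
  by_contra hSP
  set f := QuotientGroup.mk' P with hfdef
  have hf : Function.Surjective f := QuotientGroup.mk'_surjective P
  have hPS : P ≤ (S : Subgroup G) := FittingCores.pCore_le_sylow S
  have hO2 : Cfsg.pCore 2 (G ⧸ P) = ⊥ := by
    refine le_bot_iff.1 fun z hz => ?_
    obtain ⟨g, rfl⟩ := hf z
    refine Subgroup.mem_bot.2 ((QuotientGroup.eq_one_iff g).2 ?_)
    haveI := FittingCores.pCore_normal (G := G ⧸ P) 2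
    refine FittingCores.le_pCore (N := (Cfsg.pCore 2 (G ⧸ P)).comap f) inferInstance ?_ hz
    exact (FittingCores.pCore_isPGroup 2).comap_of_ker_isPGroup f
      (by rw [hfdef, QuotientGroup.ker_mk']; exact hP)
  set Sb := (S : Subgroup G).map f with hSbdef
  let W : Subgroup (G ⧸ P) :=
    { carrier := {x | x ∈ Sb ∧ x * x = 1 ∧ ∀ y ∈ Sb, y * x = x * y}
      one_mem' := ⟨one_mem _, one_mul 1, fun y _ => by rw [one_mul, mul_one]⟩
      mul_mem' := fun {x y} hx hy => ⟨mul_mem hx.1 hy.1, by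
          rw [mul_assoc, ← mul_assoc y, hx.2.2 y hy.1, mul_assoc, hy.2.1, mul_one, hx.2.1],
        fun z hz => by rw [← mul_assoc, hx.2.2 z hz, mul_assoc, hy.2.2 z hz, mul_assoc]⟩
      inv_mem' := fun {x} hx => ⟨inv_mem hx.1, by rw [← mul_inv_rev, hx.2.1, inv_one],
        fun z hz => ((show Commute z x from hx.2.2 z hz).inv_right).eq⟩ }
  have hWmem : ∀ x, x ∈ W ↔ x ∈ Sb ∧ x * x = 1 ∧ ∀ y ∈ Sb, y * x = x * y := fun _ => Iff.rfl
  have hWc : ∀ u ∈ W, ∀ v ∈ W, u * v = v * u := fun u hu v hv => hv.2.2 u hu.1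
  have hSb2 : IsPGroup 2 Sb := S.isPGroup'.map f
  have hW2 : IsPGroup 2 W := hSb2.to_le fun x hx => hx.1
  have hWne : W ≠ ⊥ := by
    haveI : Nontrivial Sb := (Subgroup.nontrivial_iff_ne_bot _).2 fun h =>
      hSP fun s hs => (QuotientGroup.eq_one_iff s).1
        (Subgroup.mem_bot.1 (h ▸ Subgroup.mem_map_of_mem f hs))
    obtain ⟨z, hz, hz1, hz2⟩ := exists_involution (Z := (Subgroup.center Sb).map Sb.subtype)
      ((hSb2.to_subgroup _).map _) (fun h => (Subgroup.nontrivial_iff_ne_bot _).1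
        hSb2.center_nontrivial ((Subgroup.map_eq_bot_iff_of_injective _ Sb.subtype_injective).1 h))
    intro hbot
    obtain ⟨z, hzc, rfl⟩ := hz
    refine hz1 (Subgroup.mem_bot.1 (hbot ▸ ((hWmem _).2 ⟨z.2, ?_, fun y hy => ?_⟩)))
    · rw [← pow_two, hz2]
    · exact congrArg Subtype.val (Subgroup.mem_center_iff.1 hzc ⟨y, hy⟩)
  -- a prime r with W moving the r-core
  obtain ⟨r, hr, hWr⟩ : ∃ r : ℕ, r.Prime ∧
      ¬ W ≤ Subgroup.centralizer (Cfsg.pCore r (G ⧸ P) : Set (G ⧸ P)) := by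
    by_contra h
    push Not at h
    haveI : Group.IsSolvable (G ⧸ P) := Group.isSolvable_of_surjective hf
    have hWF : W ≤ Cfsg.fittingSubgroup (G ⧸ P) := by
      refine le_trans ?_ FittingCores.centralizer_fitting_le
      rw [Subgroup.le_centralizer_iff, FittingCores.fitting_eq_iSup_pCore]
      exact iSup_le fun q => Subgroup.le_centralizer_iff.1 (h q q.2)
    have hWO : W ≤ Cfsg.pPrimeCore 2 (G ⧸ P) := by
      have h' := hWF.trans (FittingCores.fitting_le_pCore_sup_pPrimeCore Nat.prime_two)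
      rwa [hO2, bot_sup_eq] at h'
    obtain ⟨k, hk⟩ := IsPGroup.iff_card.1 hW2
    have hd : Nat.card W ∣ 1 := by
      rw [← ((FittingCores.pPrimeCore_coprime (G := G ⧸ P) 2).pow_right k).gcd_eq_one]
      exact Nat.dvd_gcd (Subgroup.card_dvd_of_le hWO) hk.dvd
    exact hWne (Subgroup.card_eq_one.1 (Nat.dvd_one.1 hd))
  haveI := Fact.mk hr
  have hr2 : r ≠ 2 := by
    rintro rfl
    exact hWr fun w _ => by
      rw [hO2]
      exact Subgroup.mem_centralizer_iff.2 fun y hy => by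
        rw [Subgroup.coe_bot, Set.mem_singleton_iff] at hy
        rw [hy, one_mul, mul_one]
  set R₀ := Cfsg.pCore r (G ⧸ P) with hR₀def
  haveI hR₀n : R₀.Normal := FittingCores.pCore_normal r
  have hR₀ : IsPGroup r R₀ := FittingCores.pCore_isPGroup r
  obtain ⟨H, hH⟩ := Critical.exists_critical hR₀
  set J := H.map R₀.subtype with hJdef
  haveI hJn : J.Normal := FittingCores.normal_map_of_characteristic inferInstance hH.char
  have hWJ : ¬ W ≤ Subgroup.centralizer (J : Set (G ⧸ P)) := by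
    intro hle
    refine hWr fun w hw => ?_
    have hone : (MulAut.conjNormal w : MulAut R₀) = 1 := by
      refine hH.mulAut_eq_one' hR₀ ?_ fun x hx => Subtype.ext ?_
      · refine Nat.Coprime.coprime_dvd_left ?_ ((Nat.coprime_primes Nat.prime_two hr).2 hr2.symm)
        exact orderOf_dvd_of_pow_eq_one (by rw [← map_pow, pow_two, hw.2.1, map_one])
      · rw [MulAut.conjNormal_apply,
          ← Subgroup.mem_centralizer_iff.1 (hle hw) (x : G ⧸ P) ⟨x, hx, rfl⟩, mul_inv_cancel_right]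
    refine Subgroup.mem_centralizer_iff.2 fun y hy => ?_
    have := congrArg (fun e : MulAut R₀ => ((e ⟨y, hy⟩ : R₀) : G ⧸ P)) hone
    simp only [MulAut.conjNormal_apply, MulAut.one_apply] at this
    conv_lhs => rw [← this]
    group
  obtain ⟨R₁, hR₁n, hR₁r, hWR₁, hR₁c⟩ : ∃ R₁ : Subgroup (G ⧸ P), R₁.Normal ∧ IsPGroup r R₁ ∧
      ¬ W ≤ Subgroup.centralizer (R₁ : Set (G ⧸ P)) ∧
      ∀ a ∈ R₁, ∀ b ∈ R₁, ⁅a, b⁆ ∈ Subgroup.centralizer (R₁ : Set (G ⧸ P)) ∧
        ∀ w ∈ W, w * ⁅a, b⁆ * w⁻¹ = ⁅a, b⁆ := by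
    set ZJ := J ⊓ Subgroup.centralizer (J : Set (G ⧸ P)) with hZJ
    have hJr : IsPGroup r J := hR₀.to_le (Subgroup.map_subtype_le _)
    by_cases hWZ : W ≤ Subgroup.centralizer (ZJ : Set (G ⧸ P))
    · refine ⟨J, hJn, hJr, hWJ, ?_⟩
      rintro _ ⟨a, ha, rfl⟩ _ ⟨b, hb, rfl⟩
      have hc : ⁅a, b⁆ ∈ H ⊓ Subgroup.centralizer (H : Set R₀) :=
        hH.comm (Subgroup.commutator_mem_commutator (Subgroup.mem_top _) hb)
      have hmem : R₀.subtype ⁅a, b⁆ ∈ ZJ := by
        refine ⟨⟨_, hc.1, rfl⟩, Subgroup.mem_centralizer_iff.2 ?_⟩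
        rintro _ ⟨t, ht, rfl⟩
        rw [← map_mul, ← map_mul, Subgroup.mem_centralizer_iff.1 hc.2 t ht]
      rw [← map_commutatorElement R₀.subtype]
      refine ⟨hmem.2, fun w hw => ?_⟩
      rw [← Subgroup.mem_centralizer_iff.1 (hWZ hw) _ hmem, mul_inv_cancel_right]
    · refine ⟨ZJ, inferInstance, hJr.to_le inf_le_left, hWZ, fun a ha b hb => ?_⟩
      have : ⁅a, b⁆ = 1 := commutatorElement_eq_one_iff_commute.2
        (Subgroup.mem_centralizer_iff.1 hb.2 a ha.1)
      rw [this]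
      exact ⟨one_mem _, fun w _ => by rw [mul_one, mul_inv_cancel]⟩
  set Cb := C.map f with hCbdef
  haveI hCbn : Cb.Normal := hCn.map f hf
  set R := R₁ ⊓ Cb with hRdef
  haveI hRn : R.Normal := Subgroup.normal_inf_normal R₁ Cb
  have hRodd : Odd (Nat.card R) := by
    obtain ⟨k, hk⟩ := IsPGroup.iff_card.1 (hR₁r.to_le (inf_le_left : R ≤ R₁))
    rw [hk]; exact (hr.odd_of_ne_two hr2).pow
  have hWCb : W ≤ Cb := fun w hw => Subgroup.map_mono hSC hw.1
  have hWR : ¬ W ≤ Subgroup.centralizer (R : Set (G ⧸ P)) := by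
    intro hle
    refine hWR₁ fun w hw => Subgroup.mem_centralizer_iff.2 fun x hx => ?_
    set y := x⁻¹ * (w * x * w⁻¹) with hy
    have hyR : y ∈ R := Subgroup.mem_inf.2 ⟨mul_mem (inv_mem hx) (hR₁n.conj_mem x hx w), by
      rw [hy, show x⁻¹ * (w * x * w⁻¹) = x⁻¹ * w * x⁻¹⁻¹ * w⁻¹ by group]
      exact mul_mem (hCbn.conj_mem w (hWCb hw) x⁻¹) (inv_mem (hWCb hw))⟩
    have hwy : w * y * w⁻¹ = y := by
      rw [← Subgroup.mem_centralizer_iff.1 (hle hw) y hyR, mul_inv_cancel_right]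
    have hwy' : w * y * w⁻¹ = y⁻¹ := by
      have hwi : w⁻¹ = w := inv_eq_of_mul_eq_one_right hw.2.1
      calc w * y * w⁻¹ = w * x⁻¹ * w * x * (w⁻¹ * w⁻¹) := by rw [hy]; group
        _ = y⁻¹ := by rw [hy, hwi, hw.2.1, mul_one]; simp [hwi, mul_assoc]
    rw [hwy] at hwy'
    have h1 : orderOf y ∣ 2 := orderOf_dvd_of_pow_eq_one (by
      rw [pow_two]; nth_rewrite 1 [hwy']; exact inv_mul_cancel y)
    have h3 := Nat.dvd_gcd h1 (Subgroup.orderOf_dvd_natCard R hyR)
    rw [(Nat.coprime_two_left.2 hRodd).gcd_eq_one, Nat.dvd_one, orderOf_eq_one_iff, hy,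
      inv_mul_eq_one] at h3
    calc x * w = w * x * w⁻¹ * w := by rw [← h3]
      _ = w * x := by group
  obtain ⟨K₀, hK₀⟩ := exists_axis W R (fun w hw => hw.2.1) hWc Subgroup.le_normalizer_of_normal
    (by
      obtain ⟨k, hk⟩ := IsPGroup.iff_card.1 hW2
      rw [hk]; exact (Nat.coprime_two_left.2 hRodd).pow_left k) hWR
  have hSbconj : ∀ l ∈ NS, ∀ x ∈ Sb, f l * x * (f l)⁻¹ ∈ Sb := by
    rintro l hl _ ⟨s, hs, rfl⟩
    exact ⟨l * s * l⁻¹, (Subgroup.mem_normalizer_iff.1 hl s).1 hs, by rw [map_mul, map_mul, map_inv]⟩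
  have hlW : ∀ l ∈ NS, ∀ x ∈ W, f l * x * (f l)⁻¹ ∈ W := by
    intro l hl x hx
    refine ⟨hSbconj l hl x hx.1, by rw [conj_mul, hx.2.1, mul_one, mul_inv_cancel], fun y hy => ?_⟩
    have := hx.2.2 _ (hSbconj l⁻¹ (inv_mem hl) y hy)
    rw [map_inv, inv_inv] at this
    calc y * (f l * x * (f l)⁻¹) = f l * (((f l)⁻¹ * y * f l) * x) * (f l)⁻¹ := by group
      _ = f l * x * (f l)⁻¹ * y := by rw [this]; group
  have hlN : ∀ l ∈ NS, f l ∈ Subgroup.normalizer (W : Set (G ⧸ P)) := fun l hl => by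
    rw [Subgroup.mem_normalizer_iff]
    intro x
    refine ⟨hlW l hl x, fun h => ?_⟩
    simpa [map_inv, mul_assoc] using hlW l⁻¹ (inv_mem hl) _ h
  -- the stabilizer of the axis fixes an involution
  set Ls := L ⊓ (Subgroup.normalizer (K₀ : Set (G ⧸ P))).comap f with hLsdef
  obtain ⟨hK₀W, hK₀n, hK₀two, -⟩ := id hK₀
  obtain ⟨w₀, hw₀, hw₀K⟩ := SetLike.not_le_iff_exists.1 hK₀n
  obtain ⟨w, hw, hwK, hwfix⟩ : ∃ w ∈ W, w ∉ K₀ ∧ ∀ m ∈ Ls, f m * w * (f m)⁻¹ = w := by
    letI : CommGroup W :=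
      { (inferInstance : Group W) with
        mul_comm := fun a b => Subtype.ext (hWc _ a.2 _ b.2) }
    letI : Fintype Ls := Fintype.ofFinite Ls
    let g : Ls → W := fun m => ⟨_, hlW m (hLN m.2.1) w₀ hw₀⟩
    have hgK : ∀ m, (g m : G ⧸ P) ∉ K₀ := fun m h =>
      hw₀K ((Subgroup.mem_normalizer_iff.1 m.2.2 w₀).2 h)
    have hpar : ∀ s : Finset Ls, ((∏ i ∈ s, g i : W) : G ⧸ P) ∈ K₀ ↔ Even s.card := by
      intro s
      induction s using Finset.induction with
      | empty => simp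
      | @insert m s hm ih =>
        rw [Finset.prod_insert hm, Finset.card_insert_of_notMem hm, Nat.even_add_one, ← ih,
          Subgroup.coe_mul]
        refine ⟨fun h hs => hgK m ((Subgroup.mul_mem_cancel_right _ hs).1 h), fun hs => ?_⟩
        exact hK₀two _ (g m).2 _ (∏ i ∈ s, g i : W).2 (hgK m) hs
    refine ⟨((∏ i, g i : W) : G ⧸ P), (∏ i, g i : W).2, fun h => ?_, fun m hm => ?_⟩
    · have h' := (hpar Finset.univ).1 h
      rw [Finset.card_univ, ← Nat.card_eq_fintype_card] at h'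
      exact Nat.not_odd_iff_even.2 h' (hLodd.of_dvd_nat (Subgroup.card_dvd_of_le inf_le_left))
    · let ψ : W →* W :=
        { toFun := fun x => ⟨_, hlW m (hLN hm.1) x x.2⟩
          map_one' := Subtype.ext (by simp)
          map_mul' := fun x y => Subtype.ext (by simp [mul_assoc]) }
      have hψg : ∀ i : Ls, ψ (g i) = g (⟨m, hm⟩ * i) := fun i => Subtype.ext (by
        show f m * (f (i : G) * w₀ * (f (i : G))⁻¹) * (f m)⁻¹ =
          f (m * i) * w₀ * (f (m * i))⁻¹
        rw [map_mul, mul_inv_rev]; group)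
      have : ψ (∏ i, g i) = ∏ i, g i := by
        rw [map_prod, Finset.prod_congr rfl fun i _ => hψg i]
        exact Fintype.prod_equiv (Equiv.mulLeft (⟨m, hm⟩ : Ls)) _ _ fun _ => rfl
      exact congrArg Subtype.val this
  have hw1 : w ≠ 1 := fun h => hwK (h ▸ one_mem K₀)
  have hLsS : Ls ≤ Subgroup.normalizer ((S : Subgroup G) : Set G) := inf_le_left.trans hLN
  have hcopLS : (Nat.card Ls).Coprime (Nat.card (S : Subgroup G)) := by
    obtain ⟨k, hk⟩ := IsPGroup.iff_card.1 S.isPGroup'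
    rw [hk]
    exact (Nat.coprime_two_right.2 (hLodd.of_dvd_nat (Subgroup.card_dvd_of_le inf_le_left))).pow_right k
  obtain ⟨t, ⟨htS, htc⟩, htw⟩ : w ∈ ((S : Subgroup G) ⊓ Subgroup.centralizer (Ls : Set G)).map f := by
    rw [CoprimeAct.map_inf_centralizer f hLsS hcopLS (Or.inr inferInstance)]
    refine ⟨hw.1, Subgroup.mem_centralizer_iff.2 ?_⟩
    rintro _ ⟨m, hm, rfl⟩
    exact mul_inv_eq_iff_eq_mul.1 (hwfix m hm)
  have ht1 : t ≠ 1 := fun h => hw1 (by rw [← htw, h, map_one])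
  obtain ⟨u₀, hu₀z, hu₀1, hu₀2⟩ := exists_involution
    (Z := Subgroup.zpowers t) (S.isPGroup'.to_le (Subgroup.zpowers_le.2 htS))
    (by rwa [Ne, Subgroup.zpowers_eq_bot])
  have hLsu : ∀ m ∈ Ls, m * u₀ = u₀ * m := fun m hm => by
    have := (Subgroup.zpowers_le.2 htc) hu₀z
    exact Subgroup.mem_centralizer_iff.1 this m hm
  have hu₀u : u₀ * u₀ = 1 := by rw [← pow_two, hu₀2]
  -- many axes
  have hinv : ∀ u : {u : G // u ≠ 1 ∧ u * u = 1}, ∃ l, l ∈ L ∧ l * u₀ * l⁻¹ = u := fun u =>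
    hLtrans u₀ u hu₀1 hu₀u u.2.1 u.2.2
  choose lu hlu hlu' using hinv
  let κ : {u : G // u ≠ 1 ∧ u * u = 1} → Subgroup (G ⧸ P) := fun u => MulAut.conj (f (lu u)) • K₀
  have hκ : Function.Injective κ := by
    intro u v h
    have hm : (lu v)⁻¹ * lu u ∈ Ls := by
      refine Subgroup.mem_inf.2 ⟨mul_mem (inv_mem (hlu v)) (hlu u), ?_⟩
      show f ((lu v)⁻¹ * lu u) ∈ Subgroup.normalizer (K₀ : Set (G ⧸ P))
      rw [SolvBasic.mem_normalizer_iff_conjSmul, map_mul, map_inv, ← SolvBasic.conjSmul_conjSmul]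
      show MulAut.conj (f (lu v))⁻¹ • κ u = K₀
      rw [h]
      exact SolvBasic.conjSmul_inv_conjSmul _ _
    have h1 := hLsu _ hm
    refine Subtype.ext ?_
    rw [← hlu' u, ← hlu' v]
    calc lu u * u₀ * (lu u)⁻¹ = lu v * ((lu v)⁻¹ * lu u * u₀) * (lu u)⁻¹ := by group
      _ = lu v * u₀ * (lu v)⁻¹ := by rw [h1]; group
  letI : Fintype {u : G // u ≠ 1 ∧ u * u = 1} := Fintype.ofFinite _
  obtain ⟨A, hAR, hAc, hAcard⟩ := exists_abelian W R hRodd (fun a ha b hb =>
      ⟨Subgroup.centralizer_le (SetLike.coe_subset_coe.2 inf_le_left) (hR₁c a ha.1 b hb.1).1,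
        (hR₁c a ha.1 b hb.1).2⟩)
    (Finset.univ.image κ) (fun K hK => by
      obtain ⟨u, -, rfl⟩ := Finset.mem_image.1 hK
      exact hK₀.conj (hlN _ (hLN (hlu u))) (Subgroup.le_normalizer_of_normal (Subgroup.mem_top _)))
  have hcardT : (Finset.univ.image κ).card = 2 ^ n - 1 := by
    rw [Finset.card_image_of_injective _ hκ, Finset.card_univ, ← Nat.card_eq_fintype_card]
    have h1 : Nat.card {u : G // u ≠ 1 ∧ u * u = 1} = ((U : Set G) \ {1}).ncard := by
      rw [← Nat.card_coe_set_eq]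
      exact Nat.card_congr (Equiv.subtypeEquivRight fun x => by simp [hU, and_comm])
    have h2 : (U : Set G).ncard = 2 ^ n := hn
    rw [h1, Set.ncard_diff_singleton_of_mem (one_mem U), h2]
  -- lift the abelian group
  set M := A.comap f with hMdef
  have hfker : f.ker = P := QuotientGroup.ker_mk' P
  have hPM : P ≤ M := fun x hx => by
    show f x ∈ A
    rw [show f x = 1 from (QuotientGroup.eq_one_iff x).2 hx]; exact one_mem _
  haveI : (P.subgroupOf M).Normal := inferInstance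
  have hidx : (P.subgroupOf M).index = Nat.card A := by
    show P.relIndex M = Nat.card A
    conv_lhs => rw [← hfker, Subgroup.relIndex_ker]
    rw [Subgroup.map_comap_eq_self_of_surjective hf]
  have hAodd : Odd (Nat.card A) := hRodd.of_dvd_nat (Subgroup.card_dvd_of_le hAR)
  obtain ⟨B', hB'⟩ := Subgroup.exists_right_complement'_of_coprime (N := P.subgroupOf M) (by
    rw [Nat.card_congr (Subgroup.subgroupOfEquivOfLe hPM).toEquiv, hidx]
    obtain ⟨k, hk⟩ := IsPGroup.iff_card.1 hP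
    rw [hk]; exact (Nat.coprime_two_left.2 hAodd).pow_left k)
  set A₀ := B'.map M.subtype with hA₀def
  have hA₀card : Nat.card A₀ = Nat.card A := by
    rw [Subgroup.card_map_of_injective M.subtype_injective, ← hB'.symm.index_eq_card, hidx]
  have hA₀M : A₀ ≤ M := Subgroup.map_subtype_le _
  have hA₀P : ∀ x ∈ A₀, x ∈ P → x = 1 := by
    rintro _ ⟨x, hx, rfl⟩ hxP
    rw [Subgroup.disjoint_def.1 hB'.disjoint (show x ∈ P.subgroupOf M from hxP) hx]
    rfl
  have hA₀c : IsMulCommutative A₀ := by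
    refine ⟨⟨fun x y => Subtype.ext ?_⟩⟩
    have h1 : f (x : G) * f (y : G) = f (y : G) * f (x : G) :=
      congrArg Subtype.val (hAc.is_comm.comm (⟨_, hA₀M x.2⟩ : A) ⟨_, hA₀M y.2⟩)
    have h2 : (x : G) * y * ((y : G) * x)⁻¹ ∈ P := (QuotientGroup.eq_one_iff _).1 (by
      show f ((x : G) * y * ((y : G) * x)⁻¹) = 1
      rw [map_mul, map_inv, map_mul, map_mul, h1, mul_inv_cancel])
    exact mul_inv_eq_one.1
      (hA₀P _ (mul_mem (mul_mem x.2 y.2) (inv_mem (mul_mem y.2 x.2))) h2)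
  have hA₀C : A₀ ≤ C := by
    refine hA₀M.trans fun x hx => ?_
    obtain ⟨c, hc, hcx⟩ := (inf_le_right : R₁ ⊓ Cb ≤ Cb) (hAR hx)
    have h : c⁻¹ * x ∈ P := (QuotientGroup.eq_one_iff _).1 (by
      show f (c⁻¹ * x) = 1
      rw [map_mul, map_inv, hcx, inv_mul_cancel])
    simpa using mul_mem hc (hPU h)
  have hbound := card_abelian_le P U A₀ hP hCP hU hUP hPU hn (hA₀card ▸ hAodd) hA₀c hA₀C
  rw [hcardT, ← hA₀card] at hAcard
  exact absurd (hAcard.trans hbound) (not_le.2 (three_pow_gt n hn2))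

end Cfsg.Agent.ConjInvol
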